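import Cfsg.Agent.H242.StrP.LinAll
import Cfsg.Agent.H876.NondegMax
import Cfsg.Agent.H876.SingMax
import Mathlib.FieldTheory.Finite.GaloisField
import Cfsg.Agent.LieClassical.HermBasic
import Mathlib.FieldTheory.Finite.Basic
import Cfsg.Agent.FastGrp
import Cfsg.Agent.Prune
set_option linter.all false

section
prune_inst 0x7ffdeefbfbf8cddfdfff7e7ffed6ddfc3a931fffa4def94bffe061cf0bdf131809e5f3858de010fe1ec3421410a87843effffeffea67dc7ffffd5df41ffbee0fe5f6b50851d48c340fbc0ff603f0778e7f3fffffffffffffffffffffffffffbeffbfffffffff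

-- part: H242/StrP/Uni
section
prune_inst 0x1100040022202000018000210203c568e0004b200480000c8410a400e802e6020812020b0b00011428a28c56039000000000010020000000a200400011d008000800002b108010006009e000080000000000000000000000000000000000004000000000
set_option linter.all false
open scoped Cfsg.Agent.FastGrp

/-!
# `PSU_n(q)`, cross characteristic: the quick cases (helper242, for S2120)

* `noSP_of_iso` : a noncyclic elementary abelian `p`-group stabilizing a non-zero totally isotropic subspace;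
* `noSP_of_pair` : the same for two matrices.
-/

set_option autoImplicit false
set_option linter.unusedSectionVars false

namespace Cfsg.Agent.H242.StrP.Uni

open Cfsg Subgroup Cfsg.Agent.H818.StrP Cfsg.Agent.H818.StrP.Opp Cfsg.Agent.PreUniq.Cl Cfsg.Agent.H242.StrP
  Cfsg.Agent.LieClassical.HermBasic Cfsg.Agent.ClassicalGeometry.UnitTransv

variable {F : Type} [Field F] [Fintype F] {n q r p : ℕ} {G : Type*} [Group G] [Finite G] [IsSimpleGroup G]
  [hp : Fact p.Prime] [hr : Fact r.Prime] [CharP F r]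

omit [Finite G] [IsSimpleGroup G] [CharP F r] [Fintype F] hp hr in
theorem projC_eq_one_iff (e : G ≃* PSU n F q) {x : SU n F q} : projC e x = 1 ↔ x ∈ center (SU n F q) := by
  refine ⟨mem_center_of_projC, fun h => ?_⟩
  have h1 : QuotientGroup.mk' (center (SU n F q)) x = 1 := (QuotientGroup.eq_one_iff x).2 h
  show e.symm (QuotientGroup.mk' _ x) = 1
  rw [h1, map_one]

omit [Finite G] [IsSimpleGroup G] [CharP F r] hp hr in
theorem ker_scalar (hF : Fintype.card F = q ^ 2) (hn : 3 ≤ n) (e : G ≃* PSU n F q) (x : SU n F q)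
    (hx : projC e x = 1) : ∃ a : F, ∀ v, rhoU n q F x v = a • v := (actU hF hn e).ker x hx

/-- **The quick case.** -/
theorem noSP_of_iso (hF : Fintype.card F = q ^ 2) (hn : 3 ≤ n) (h32 : ¬ (n = 3 ∧ q = 2))
    (hna : ¬ IsMulCommutative G) (hpr : p ≠ r) (e : G ≃* PSU n F q) {E : Subgroup G}
    (hE : IsElementaryAbelian p E) (hE2 : p ^ 2 ≤ Nat.card E) {W : Submodule F (Fin n → F)} (hW0 : W ≠ ⊥)
    (hW : ∀ x ∈ W, ∀ y ∈ W, hermForm n F q x y = 0)
    (hyW : ∀ y, projC e y ∈ E → ∀ w ∈ W, act y w ∈ W) : NoSP p G := by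
  have hfilt : KFacts.RgdFilt.HasFilt r G :=
    KFacts.RgdLieCharP.hasFilt_of_lie (Or.inr (Or.inr (Or.inl ⟨F, inferInstance, inferInstance, inferInstance, n, q, hF,
      hn, h32, ⟨e⟩⟩)))
  obtain ⟨R, hR, hR1, hER⟩ := (actU hF hn e).exists_normalized (r := r) (radNeU hF hn e) (E := E) (by
    intro h
    apply hW0
    have h1 := h (subm (projC e) (rhoU n q F) W (fun x hx w hw => hyW x hx w hw)) (fun x hx y hy => hW x hx y hy)
    rw [eq_bot_iff]
    intro v hv
    have h2 : v ∈ subm (projC e) (rhoU n q F) (E := E) W (fun x hx w hw => hyW x hx w hw) := hv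
    rw [h1] at h2
    exact h2)
  exact noSP_of_local hfilt (Lin.exists_ne_comm hna) hpr hR hR1 hE hE2 hER

/-- the quick case for two matrices -/
theorem noSP_of_pair (hF : Fintype.card F = q ^ 2) (hn : 3 ≤ n) (h32 : ¬ (n = 3 ∧ q = 2))
    (hna : ¬ IsMulCommutative G) (hpr : p ≠ r) (e : G ≃* PSU n F q) {x y : SU n F q} (hxy : x * y = y * x)
    (hx : x ^ p ∈ center (SU n F q)) (hy : y ^ p ∈ center (SU n F q)) (hx1 : x ∉ center (SU n F q))
    (hyx : ∀ i : ℤ, x ^ i * y ∉ center (SU n F q))
    {W : Submodule F (Fin n → F)} (hW0 : W ≠ ⊥) (hW : ∀ x ∈ W, ∀ y ∈ W, hermForm n F q x y = 0)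
    (hxW : ∀ w ∈ W, act x w ∈ W) (hyW : ∀ w ∈ W, act y w ∈ W) : NoSP p G := by
  have h1 : projC e x ^ p = 1 := by rw [← map_pow]; exact (projC_eq_one_iff e).2 hx
  have h2 : projC e y ^ p = 1 := by rw [← map_pow]; exact (projC_eq_one_iff e).2 hy
  have h3 : projC e x * projC e y = projC e y * projC e x := by rw [← map_mul, ← map_mul, hxy]
  have h5 : projC e x ≠ 1 := fun h => hx1 ((projC_eq_one_iff e).1 h)
  have h6 : projC e y ∉ zpowers (projC e x) := by
    rintro ⟨i, hi⟩
    apply hyx (-i)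
    rw [← projC_eq_one_iff e, map_mul, map_zpow, ← hi]
    show projC e x ^ (-i) * projC e x ^ i = 1
    rw [zpow_neg, inv_mul_cancel]
  exact noSP_of_iso hF hn h32 hna hpr e (pair_elem h1 h2 h3) (pair_card h1 h2 h3 h5 h6) hW0 hW
    (fun z hz => stab_of_pair (ρ := rhoU n q F) (ker_scalar hF hn e) h3 hxW hyW hz)

/-! ### diagonal matrices -/

omit hr [CharP F r] hp in
/-- diagonal elements of `SU` -/
theorem exists_dgSU (hF : Fintype.card F = q ^ 2) {d : Fin n → Fˣ} (hd : ∏ i, d i = 1) (hq : ∀ i, (d i) ^ (q + 1) = 1) :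
    ∃ A : SU n F q, ∀ v, act A v = fun i => (d i : F) * v i := by
  obtain ⟨A, hA⟩ := LinAll.exists_dgSL (F := F) hd
  have h2 : (LinAll.dg d : Matrix.GeneralLinearGroup (Fin n) F).val = (A : Matrix (Fin n) (Fin n) F) := by
    rw [← hA]; rfl
  refine ⟨⟨A, ?_⟩, fun v => ?_⟩
  · intro u v
    show hermForm n F q (Matrix.mulVec (A : Matrix (Fin n) (Fin n) F) u) (Matrix.mulVec (A : Matrix (Fin n) (Fin n) F) v) = _
    rw [← h2, LinAll.dg_mulVec, LinAll.dg_mulVec, herm_def, herm_def]
    refine Finset.sum_congr rfl fun i _ => ?_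
    have h1 : (d i : F) * (d i : F) ^ q = 1 := by
      rw [← pow_succ', ← Units.val_pow_eq_pow_val, hq i, Units.val_one]
    rw [mul_pow]
    linear_combination (u i * v i ^ q) * h1
  · show Matrix.mulVec (A : Matrix (Fin n) (Fin n) F) v = _
    rw [← h2, LinAll.dg_mulVec]

omit hr [CharP F r] hp in
/-- central elements act by scalars -/
theorem center_smul (hF : Fintype.card F = q ^ 2) (hn : 3 ≤ n) {x : SU n F q} (hx : x ∈ center (SU n F q)) :
    ∃ c : F, ∀ v, act x v = c • v := by
  obtain ⟨c, hcn, hcq, h⟩ := (Cfsg.Agent.LieClassical.SUBasic.mem_center_SU_iff hF hn x).1 hx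
  refine ⟨c, fun v => ?_⟩
  rw [act_def, h, Cfsg.Agent.LieClassical.SUBasic.coe_suScalar]
  funext i
  rw [Matrix.mulVec_diagonal]
  rfl

omit hr [CharP F r] hp in
theorem eq_of_center (hF : Fintype.card F = q ^ 2) (hn : 3 ≤ n) {x : SU n F q} {d : Fin n → Fˣ}
    (hd : ∀ v, act x v = fun i => (d i : F) * v i) (hx : x ∈ center (SU n F q)) (i j : Fin n) : d i = d j := by
  obtain ⟨c, hc⟩ := center_smul hF hn hx
  have key : ∀ k, (d k : F) = c := by
    intro k
    have h1 := congrFun ((hd (fun _ => 1)).symm.trans (hc (fun _ => 1))) k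
    simpa using h1
  exact Units.ext ((key i).trans (key j).symm)

omit [Fintype F] hr [CharP F r] hp in
theorem act_mul_dg {x y : SU n F q} {d d' : Fin n → Fˣ} (hd : ∀ v, act x v = fun i => (d i : F) * v i)
    (hd' : ∀ v, act y v = fun i => (d' i : F) * v i) : ∀ v, act (x * y) v = fun i => ((d * d') i : Fˣ) * v i := by
  intro v
  rw [act_mul, hd', hd]
  funext i
  rw [Pi.mul_apply, Units.val_mul, mul_assoc]

omit [Fintype F] hr [CharP F r] hp in
theorem act_one_dg {x : SU n F q} (hd : ∀ v, act x v = fun i => (((1 : Fin n → Fˣ) i : Fˣ) : F) * v i) : x = 1 := by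
  apply ext_act
  intro v
  rw [hd, act_one]
  funext i
  simp

omit [Fintype F] hr [CharP F r] hp in
theorem act_pow_dg {x : SU n F q} {d : Fin n → Fˣ} (hd : ∀ v, act x v = fun i => (d i : F) * v i) (k : ℕ) :
    ∀ v, act (x ^ k) v = fun i => ((d ^ k) i : Fˣ) * v i := by
  induction k with
  | zero => intro v; rw [pow_zero, pow_zero, act_one]; funext i; simp
  | succ k ih => rw [pow_succ, pow_succ]; exact act_mul_dg ih hd

omit [Fintype F] hr [CharP F r] hp in
theorem act_inv_dg {x : SU n F q} {d : Fin n → Fˣ} (hd : ∀ v, act x v = fun i => (d i : F) * v i) :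
    ∀ v, act x⁻¹ v = fun i => ((d⁻¹) i : Fˣ) * v i := by
  intro v
  apply act_injective x
  rw [act_act_inv, hd]
  funext i
  simp

omit [Fintype F] hr [CharP F r] hp in
theorem act_zpow_dg {x : SU n F q} {d : Fin n → Fˣ} (hd : ∀ v, act x v = fun i => (d i : F) * v i) (k : ℤ) :
    ∀ v, act (x ^ k) v = fun i => ((d ^ k) i : Fˣ) * v i := by
  obtain ⟨m, rfl | rfl⟩ := k.eq_nat_or_neg
  · rw [zpow_natCast, zpow_natCast]; exact act_pow_dg hd m
  · rw [zpow_neg, zpow_neg, zpow_natCast, zpow_natCast]; exact act_inv_dg (act_pow_dg hd m)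

omit [Fintype F] hr [CharP F r] hp in
theorem comm_dg {x y : SU n F q} {d d' : Fin n → Fˣ} (hd : ∀ v, act x v = fun i => (d i : F) * v i)
    (hd' : ∀ v, act y v = fun i => (d' i : F) * v i) : x * y = y * x := by
  apply ext_act
  intro v
  rw [act_mul_dg hd hd', act_mul_dg hd' hd, mul_comm]

/-- `n ≥ 4`, `p ∣ q + 1`. -/
theorem noSP_of_root (hF : Fintype.card F = q ^ 2) (hn : 4 ≤ n) (hna : ¬ IsMulCommutative G) (hpr : p ≠ r)
    (hp2 : p ≠ 2) (e : G ≃* PSU n F q) {w : Fˣ} (hwp : w ^ p = 1) (hw1 : w ≠ 1) (hwq : w ^ (q + 1) = 1) : NoSP p G := by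
  have : Nontrivial (Fin n) := Fin.nontrivial_iff_two_le.2 (by omega)
  let i0 : Fin n := ⟨0, by omega⟩
  let i1 : Fin n := ⟨1, by omega⟩
  let i2 : Fin n := ⟨2, by omega⟩
  let i3 : Fin n := ⟨3, by omega⟩
  have h01 : i0 ≠ i1 := by simp [i0, i1]
  have h02 : i0 ≠ i2 := by simp [i0, i2]
  have h03 : i0 ≠ i3 := by simp [i0, i3]
  have h12 : i1 ≠ i2 := by simp [i1, i2]
  have h13 : i1 ≠ i3 := by simp [i1, i3]
  have h23 : i2 ≠ i3 := by simp [i2, i3]
  have hord : orderOf w = p := orderOf_eq_prime hwp hw1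
  set a1 : Fin n → Fˣ := fun i => if i = i0 then w else if i = i2 then w⁻¹ else 1 with ha1
  set a2 : Fin n → Fˣ := fun i => if i = i1 then w else if i = i2 then w⁻¹ else 1 with ha2
  set d1 : Fin n → Fˣ := a1 * a2 with hd1
  set d2 : Fin n → Fˣ := fun i => if i = i2 then w else if i = i3 then w⁻¹ else 1 with hd2
  have hpa1 : ∏ i, a1 i = 1 := by rw [ha1, Cfsg.Agent.H871.prod_two h02, mul_inv_cancel]
  have hpa2 : ∏ i, a2 i = 1 := by rw [ha2, Cfsg.Agent.H871.prod_two h12, mul_inv_cancel]
  have hpd2 : ∏ i, d2 i = 1 := by rw [hd2, Cfsg.Agent.H871.prod_two h23, mul_inv_cancel]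
  have hpow : ∀ k : ℕ, w ^ k = 1 → ∀ i, a1 i ^ k = 1 ∧ a2 i ^ k = 1 ∧ d2 i ^ k = 1 := by
    intro k hk i
    refine ⟨?_, ?_, ?_⟩
    all_goals
      simp only [ha1, ha2, hd2]
      split_ifs
      · exact hk
      · rw [inv_pow, hk, inv_one]
      · exact one_pow k
  obtain ⟨A, hA⟩ := exists_dgSU hF (d := d1) (by rw [hd1]; simp only [Pi.mul_apply]; rw [Finset.prod_mul_distrib, hpa1,
    hpa2, one_mul]) (fun i => by rw [hd1, Pi.mul_apply, mul_pow, (hpow _ hwq i).1, (hpow _ hwq i).2.1, one_mul])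
  obtain ⟨B, hB⟩ := exists_dgSU hF (d := d2) hpd2 (fun i => (hpow _ hwq i).2.2)
  obtain ⟨b, hb⟩ := exists_norm_eq hF (c := (-1 : F)) (by rw [neg_pow_q hF, one_pow])
  set v0 : Fin n → F := Pi.single i0 1 + Pi.single i1 b with hv0
  have e0 : d1 i0 = w := by simp [hd1, ha1, ha2, h01, h02]
  have e1 : d1 i1 = w := by simp [hd1, ha1, ha2, h01.symm, h12]
  have e2 : d1 i2 = w⁻¹ * w⁻¹ := by simp [hd1, ha1, ha2, h02.symm, h12.symm]
  have e3 : d1 i3 = 1 := by simp [hd1, ha1, ha2, h03.symm, h13.symm, h23.symm]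
  have f0 : d2 i0 = 1 := by simp [hd2, h02, h03]
  have f1 : d2 i1 = 1 := by simp [hd2, h12, h13]
  have f2 : d2 i2 = w := by simp [hd2]
  have f3 : d2 i3 = w⁻¹ := by simp [hd2, h23.symm]
  have hv0i : ∀ i, i ≠ i0 → i ≠ i1 → v0 i = 0 := by
    intro i h0 h1
    simp [hv0, h0, h1]
  have hAv : act A v0 = (w : F) • v0 := by
    rw [hA]
    funext i
    by_cases h0 : i = i0
    · subst h0; rw [e0]; rfl
    · by_cases h1 : i = i1
      · subst h1; rw [e1]; rfl
      · rw [Pi.smul_apply, hv0i i h0 h1, mul_zero, smul_zero]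
  have hBv : act B v0 = (1 : F) • v0 := by
    rw [hB]
    funext i
    by_cases h0 : i = i0
    · subst h0; rw [f0]; simp
    · by_cases h1 : i = i1
      · subst h1; rw [f1]; simp
      · rw [Pi.smul_apply, hv0i i h0 h1, mul_zero, smul_zero]
  have hiso : hermForm n F q v0 v0 = 0 := by
    rw [hv0, herm_add_left, herm_add_right hF, herm_add_right hF, herm_single_right hF, herm_single_right hF,
      herm_single_right hF, herm_single_right hF]
    simp [h01, h01.symm, hb]
  have hstab : ∀ (C : SU n F q) (c : F), act C v0 = c • v0 → ∀ v ∈ Submodule.span F {v0}, act C v ∈ Submodule.span F {v0} := by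
    intro C c hc v hv
    obtain ⟨a, rfl⟩ := Submodule.mem_span_singleton.1 hv
    rw [act_smul, hc]
    exact Submodule.smul_mem _ _ (Submodule.smul_mem _ _ (Submodule.mem_span_singleton_self v0))
  refine noSP_of_pair hF (by omega) (by omega) hna hpr e (comm_dg hA hB) ?_ ?_ ?_ ?_
    (W := Submodule.span F {v0}) ?_ ?_ (hstab A _ hAv) (hstab B _ hBv)
  · have : A ^ p = 1 := act_one_dg (by
      have h1 : d1 ^ p = 1 := by
        funext i
        rw [hd1, Pi.pow_apply, Pi.mul_apply, mul_pow, (hpow _ hwp i).1, (hpow _ hwp i).2.1, one_mul]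
        rfl
      rw [← h1]
      exact act_pow_dg hA p)
    rw [this]; exact one_mem _
  · have : B ^ p = 1 := act_one_dg (by
      have h1 : d2 ^ p = 1 := funext fun i => (hpow _ hwp i).2.2
      rw [← h1]
      exact act_pow_dg hB p)
    rw [this]; exact one_mem _
  · intro hc
    have h1 := eq_of_center hF (by omega) hA hc i0 i3
    rw [e0, e3] at h1
    exact hw1 h1
  · intro k hc
    have h1 := act_mul_dg (act_zpow_dg hA k) hB
    have h2 := eq_of_center hF (by omega) h1 hc i0 i3
    have h3 := eq_of_center hF (by omega) h1 hc i0 i2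
    rw [Pi.mul_apply, Pi.mul_apply, Pi.pow_apply, Pi.pow_apply, e0, e3, f0, f3, one_zpow, one_mul, mul_one] at h2
    rw [Pi.mul_apply, Pi.mul_apply, Pi.pow_apply, Pi.pow_apply, e0, e2, f0, f2, mul_one, mul_zpow, inv_zpow, h2,
      inv_inv] at h3
    -- `w⁻¹ = w * w * w`
    have h4 : w ^ 4 = 1 := by
      have : w * w⁻¹ = w * (w * w * w) := by rw [← h3]
      rw [mul_inv_cancel] at this
      rw [this]
      simp only [pow_succ, pow_zero, one_mul]
      group
    have h5 : p ∣ 4 := by rw [← hord]; exact orderOf_dvd_of_pow_eq_one h4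
    have h6 : p ∣ 2 ^ 2 := h5
    exact hp2 ((Nat.prime_dvd_prime_iff_eq hp.out Nat.prime_two).1 (hp.out.dvd_of_dvd_pow h6))
  · intro h
    rw [Submodule.span_singleton_eq_bot] at h
    have := congrFun h i0
    simp [hv0, h01] at this
  · intro x hx y hy
    obtain ⟨a, rfl⟩ := Submodule.mem_span_singleton.1 hx
    obtain ⟨a', rfl⟩ := Submodule.mem_span_singleton.1 hy
    rw [herm_smul_left, herm_smul_right, hiso, mul_zero, mul_zero]

end Cfsg.Agent.H242.StrP.Uni
end

-- part: H242/StrP/UniCop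
section
prune_inst 0x20004000630002000018001090000050000000021040000000a1010000080040200280010a200013480000000000010000000000800000000020040000010100108010008008010020008e000000000000000000000000000000000000000000000000000
set_option linter.all false
open scoped Cfsg.Agent.FastGrp

-- part: H242/StrP/UniGen
section
/-!
# Generation of `SU_n(q)` by the pointwise stabilizers of `W`, `W^⊥` and one mixed root group (helper242, for S2120)

`gen_of_mixed` : `W`, `U = W^⊥` non-degenerate of dimension at least `3`.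
-/

set_option autoImplicit false
open Cfsg
open scoped Matrix MatrixGroups

namespace Cfsg.Agent.H242.StrP.UniGen

open Cfsg.Agent.LieClassical.HermBasic Cfsg.Agent.ClassicalGeometry.UnitTransv
open Cfsg.Agent.ClassicalGeometry.HermOrtho Cfsg.Agent.H876

variable {F : Type*} [Field F] [Fintype F] {n q : ℕ}

/-- moving vectors of `W` by elements fixing `U` pointwise -/
theorem exists_move_fix (hF : Fintype.card F = q ^ 2) {W U : Submodule F (Fin n → F)}
    (h : PerpPair q W U) {w w' z : Fin n → F}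
    (hw : w ∈ W) (hw' : w' ∈ W) (hw0 : w ≠ 0) (hw0' : w' ≠ 0)
    (hww : hermForm n F q w w = hermForm n F q w' w')
    (hz : z ∈ W) (hzz : hermForm n F q z z ≠ 0) (hwz : hermForm n F q w' z = 0) :
    ∃ g ∈ GU n F q ⊓ Geo.specialLinear (Fin n) F, (∀ u ∈ U, (g : Matrix (Fin n) (Fin n) F) *ᵥ u = u) ∧
      (g : Matrix (Fin n) (Fin n) F) *ᵥ w = w' := by
  obtain ⟨g1, hg1, hf1, he1⟩ := witt_fix hF (U := U) (a := w) (b := w')
    (fun h0 => hw0 (h.disj hw h0)) (fun h0 => hw0' (h.disj hw' h0))
    (fun v hv => by rw [h.perp w hw v hv, h.perp w' hw' v hv]) hww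
  obtain ⟨g, hg, β, hβ⟩ := exists_su_adjust hF hg1 hzz
  refine ⟨g, hg, fun u hu => ?_, ?_⟩
  · rw [hβ, hf1 u hu, h.perp' u hu z hz, mul_zero, zero_smul, add_zero]
  · rw [hβ, he1, hwz, mul_zero, zero_smul, add_zero]

/-- **Generation.** -/
theorem gen_of_mixed (hF : Fintype.card F = q ^ 2) (hn : 3 ≤ n) (h32 : ¬ (n = 3 ∧ q = 2))
    {W U : Submodule F (Fin n → F)} (hP : PerpPair q W U) (hW3 : 3 ≤ Module.finrank F W)
    (hU3 : 3 ≤ Module.finrank F U) {M : Subgroup (GL (Fin n) F)}
    (hMW : ∀ g ∈ GU n F q ⊓ Geo.specialLinear (Fin n) F,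
      (∀ u ∈ U, (g : Matrix (Fin n) (Fin n) F) *ᵥ u = u) → g ∈ M)
    (hMU : ∀ g ∈ GU n F q ⊓ Geo.specialLinear (Fin n) F,
      (∀ w ∈ W, (g : Matrix (Fin n) (Fin n) F) *ᵥ w = w) → g ∈ M)
    {w u : Fin n → F} (hw : w ∈ W) (hw0 : w ≠ 0) (hu : u ∈ U) (hu0 : u ≠ 0) (hxS : InS q M (w + u)) :
    GU n F q ⊓ Geo.specialLinear (Fin n) F ≤ M := by
  classical
  have hW : Nd q W := hP.nd
  have hW2 : 2 ≤ Module.finrank F W := by omega
  have hU2 : 2 ≤ Module.finrank F U := by omega
  have h10 : (1 : F) ≠ 0 := one_ne_zero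
  have hne : ∀ {x : Fin n → F}, hermForm n F q x x ≠ 0 → x ≠ 0 := by
    rintro x hx rfl
    exact hx (herm_zero_left _)
  -- root vectors in `W` and `U`
  have hSW : ∀ v ∈ W, hermForm n F q v v = 0 → InS q M v := by
    intro v hv hvv
    refine inS_of_forall hF hvv fun c hc => hMW _ (uGL_mem hF hvv hc) fun u hu => ?_
    rw [uGL_mulVec, hP.perp' u hu v hv, mul_zero, zero_smul, add_zero]
  have hSU : ∀ v ∈ U, hermForm n F q v v = 0 → InS q M v := by
    intro v hv hvv
    refine inS_of_forall hF hvv fun c hc => hMU _ (uGL_mem hF hvv hc) fun x hx => ?_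
    rw [uGL_mulVec, hP.perp x hx v hv, mul_zero, zero_smul, add_zero]
  have hsum : hermForm n F q w w + hermForm n F q u u = 0 := by
    have h1 := hxS.iso
    rw [herm_add_left, herm_add_right hF, herm_add_right hF, hP.perp w hw u hu, hP.perp' u hu w hw] at h1
    linear_combination h1
  -- moving
  have hmove : ∀ w ∈ W, ∀ u ∈ U, w ≠ 0 → u ≠ 0 → InS q M (w + u) → ∀ w' ∈ W, ∀ u' ∈ U, w' ≠ 0 → u' ≠ 0 →
      hermForm n F q w w = hermForm n F q w' w' → hermForm n F q u u = hermForm n F q u' u' →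
      InS q M (w' + u') := by
    intro w hw u hu hw0 hu0 hS w' hw' u' hu' hw0' hu0' e1 e2
    obtain ⟨z, hz, huz, hzz⟩ := exists_noniso_perp hF hP.nd' hU3 hu'
    obtain ⟨y, hy, hwy, hyy⟩ := exists_noniso_perp hF hP.nd hW3 hw'
    obtain ⟨k1, hk1, hk1f, hk1e⟩ := exists_move_fix hF hP hw hw' hw0 hw0' e1 hy hyy (herm_eq_zero_swap hF hwy)
    obtain ⟨k2, hk2, hk2f, hk2e⟩ := exists_move_fix hF hP.symm hu hu' hu0 hu0' e2 hz hzz (herm_eq_zero_swap hF huz)
    have h1 := InS.map (hMW k1 hk1 hk1f) hk1.1 hS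
    rw [Matrix.mulVec_add, hk1e, hk1f u hu] at h1
    have h2 := InS.map (hMU k2 hk2 hk2f) hk2.1 h1
    rwa [Matrix.mulVec_add, hk2e, hk2f w' hw'] at h2
  -- non-zero norms from one non-zero norm
  have hnz : ∀ w ∈ W, ∀ u ∈ U, w ≠ 0 → u ≠ 0 → InS q M (w + u) → hermForm n F q w w ≠ 0 →
      ∀ w' ∈ W, ∀ u' ∈ U, hermForm n F q w' w' ≠ 0 →
      hermForm n F q w' w' + hermForm n F q u' u' = 0 → InS q M (w' + u') := by
    intro w hw u hu hw0 hu0 hS hww w' hw' u' hu' hww' hs'
    have hs : hermForm n F q w w + hermForm n F q u u = 0 := by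
      have h1 := hS.iso
      rw [herm_add_left, herm_add_right hF, herm_add_right hF, hP.perp w hw u hu, hP.perp' u hu w hw] at h1
      linear_combination h1
    have huu' : hermForm n F q u' u' ≠ 0 := by
      intro h0; apply hww'; linear_combination hs' - h0
    obtain ⟨l, hl0, hl⟩ := exists_norm_eq_ne hF (c := hermForm n F q w' w' / hermForm n F q w w)
      (by rw [div_pow, herm_self_pow hF, herm_self_pow hF]) (div_ne_zero hww' hww)
    have h1 := InS.smul hF hS l
    rw [smul_add] at h1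
    have e1 : hermForm n F q (l • w) (l • w) = hermForm n F q w' w' := by
      rw [herm_smul_left, herm_smul_right]
      have : l * l ^ q * hermForm n F q w w = hermForm n F q w' w' := by
        rw [hl, div_mul_cancel₀ _ hww]
      linear_combination this
    have e2 : hermForm n F q (l • u) (l • u) = hermForm n F q u' u' := by
      rw [herm_smul_left, herm_smul_right]
      have : l * l ^ q * hermForm n F q w w = hermForm n F q w' w' := by
        rw [hl, div_mul_cancel₀ _ hww]
      linear_combination -this + (l * l ^ q) * hs - hs'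
    exact hmove (l • w) (W.smul_mem _ hw) (l • u) (U.smul_mem _ hu) (smul_ne_zero hl0 hw0)
      (smul_ne_zero hl0 hu0) h1 w' hw' u' hu' (hne hww') (hne huu') e1 e2
  -- all norms are available
  have hall : ∀ w' ∈ W, ∀ u' ∈ U, hermForm n F q w' w' ≠ 0 →
      hermForm n F q w' w' + hermForm n F q u' u' = 0 → InS q M (w' + u') := by
    by_cases hww : hermForm n F q w w = 0
    swap
    · exact hnz w hw u hu hw0 hu0 hxS hww
    have huu : hermForm n F q u u = 0 := by linear_combination hsum - hww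
    intro w' hw' u' hu' hww' hs'
    have huu' : hermForm n F q u' u' ≠ 0 := by
      intro h0; apply hww'; linear_combination hs' - h0
    obtain ⟨c, d, hc, hd, hcd⟩ := exists_two_trace_one hF
    obtain ⟨w1, hw1, hw11, hw1'⟩ := exists_iso_split hF hW hW2 hw' hww' c
    obtain ⟨u1, hu1, hu11, hu1'⟩ := exists_iso_split hF hP.nd' hU2 hu' huu' d
    have hc0 : c ≠ 0 := by
      rintro rfl; rw [zero_pow_q hF, add_zero] at hc; exact h10 hc.symm
    have hd0 : d ≠ 0 := by
      rintro rfl; rw [zero_pow_q hF, add_zero] at hd; exact h10 hd.symm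
    have hw10 : w1 ≠ 0 := by
      rintro rfl; rw [herm_zero_left] at hw1'; exact mul_ne_zero hc0 hww' hw1'.symm
    have hu10 : u1 ≠ 0 := by
      rintro rfl; rw [herm_zero_left] at hu1'; exact mul_ne_zero hd0 huu' hu1'.symm
    have hw2 := herm_sub_self_iso hF hw11 hw1' hc
    have hu2 := herm_sub_self_iso hF hu11 hu1' hd
    have hw20 : w' - w1 ≠ 0 := by
      intro h0; apply hww'; rw [sub_eq_zero.1 h0]; exact hw11
    have hu20 : u' - u1 ≠ 0 := by
      intro h0; apply huu'; rw [sub_eq_zero.1 h0]; exact hu11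
    have h1 : InS q M (w1 + u1) := hmove w hw u hu hw0 hu0 hxS w1 hw1 u1 hu1 hw10 hu10
      (by rw [hww, hw11]) (by rw [huu, hu11])
    have h2 : InS q M ((w' - w1) + (u' - u1)) := hmove w hw u hu hw0 hu0 hxS _ (W.sub_mem hw' hw1) _
      (U.sub_mem hu' hu1) hw20 hu20 (by rw [hww, hw2]) (by rw [huu, hu2])
    have h3 := InS.line hF h1 h2 (by
      rw [herm_add_left, herm_add_right hF, herm_add_right hF, hP.perp w1 hw1 _ (U.sub_mem hu' hu1),
        hP.perp' u1 hu1 _ (W.sub_mem hw' hw1), herm_sub_right hF, herm_sub_right hF, hw11, hu11, hw1', hu1']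
      intro h0
      apply hcd
      have h5 : (c - d) * hermForm n F q w' w' = 0 := by linear_combination h0 - d * hs'
      exact sub_eq_zero.1 ((mul_eq_zero.1 h5).resolve_right hww')) 1 1 (by
      have h6 : (1 : F) • (w1 + u1) + (1 : F) • ((w' - w1) + (u' - u1)) = w' + u' := by
        rw [one_smul, one_smul]; abel
      rw [h6, herm_add_left, herm_add_right hF, herm_add_right hF, hP.perp w' hw' u' hu',
        hP.perp' u' hu' w' hw']
      linear_combination hs')
    have h6 : (1 : F) • (w1 + u1) + (1 : F) • ((w' - w1) + (u' - u1)) = w' + u' := by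
      rw [one_smul, one_smul]; abel
    rwa [h6] at h3
  -- conclusion
  refine su_le hF hn h32 fun y hy => ?_
  obtain ⟨w', hw', u', hu', rfl⟩ := hP.dec y
  have hs' : hermForm n F q w' w' + hermForm n F q u' u' = 0 := by
    rw [herm_add_left, herm_add_right hF, herm_add_right hF, hP.perp w' hw' u' hu', hP.perp' u' hu' w' hw'] at hy
    linear_combination hy
  by_cases hww' : hermForm n F q w' w' = 0
  swap
  · exact hall w' hw' u' hu' hww' hs'
  have huu' : hermForm n F q u' u' = 0 := by linear_combination hs' - hww'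
  by_cases hw0' : w' = 0
  · subst hw0'; rw [zero_add]; exact hSU u' hu' huu'
  by_cases hu0' : u' = 0
  · subst hu0'; rw [add_zero]; exact hSW w' hw' hww'
  obtain ⟨α, hα0, hα⟩ := exists_trace_zero_ne hF
  -- `w1`
  obtain ⟨y0, hy0, hy0'⟩ : ∃ y0 ∈ W, hermForm n F q y0 w' ≠ 0 := by
    by_contra hcon
    push Not at hcon
    exact hw0' (hW w' hw' fun v hv => herm_eq_zero_swap hF (hcon v hv))
  set! w2 := (α / hermForm n F q y0 w') • y0 with hw2def
  have hw2W : w2 ∈ W := W.smul_mem _ hy0
  have hw2w : hermForm n F q w2 w' = α := by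
    rw [hw2def, herm_smul_left, div_mul_cancel₀ _ hy0']
  obtain ⟨μ, hμ⟩ := exists_iso_add hF (x := w2) (w := w') hww' (by rw [hw2w]; exact hα0)
    (ν := 1) (one_pow q)
  set! w1 := w2 + μ • w' with hw1def; rewrite [← hw1def] at hμ
  have hw1W : w1 ∈ W := W.add_mem hw2W (W.smul_mem _ hw')
  have hw1w : hermForm n F q w1 w' = α := by
    rw [hw1def, herm_add_left, herm_smul_left μ, hww', mul_zero, add_zero, hw2w]
  have hww1 : hermForm n F q w' w1 = α ^ q := by rw [herm_swap hF w1 w', hw1w]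
  -- `u1`
  obtain ⟨z, hz, hzu, hzz⟩ := exists_noniso_perp hF hP.nd' (by omega) hu'
  obtain ⟨l, hl⟩ := _root_.Cfsg.Agent.LieClassical.HermBasic.exists_norm_eq hF (c := -(1 / hermForm n F q z z))
    (by rw [neg_pow_q hF, div_pow, herm_self_pow hF, one_pow])
  have hu11 : hermForm n F q (l • z) (l • z) = -1 := by
    rw [herm_smul_left, herm_smul_right]
    have : l * l ^ q * hermForm n F q z z = -1 := by
      rw [hl, neg_mul, div_mul_cancel₀ _ hzz]
    linear_combination this
  have hu1u : hermForm n F q (l • z) u' = 0 := by rw [herm_smul_left, hzu, mul_zero]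
  have huu1 : hermForm n F q u' (l • z) = 0 := herm_eq_zero_swap hF hu1u
  have hu1U : l • z ∈ U := U.smul_mem _ hz
  have h1 : InS q M (w1 + l • z) := hall w1 hw1W (l • z) hu1U (by rw [hμ]; exact h10)
    (by rw [hμ, hu11]; ring)
  have e3 : hermForm n F q (w1 - w') (w1 - w') = 1 := by
    rw [herm_sub_left, herm_sub_right hF, herm_sub_right hF, hμ, hw1w, hww1, hww']
    linear_combination -hα
  have e4 : hermForm n F q (l • z - u') (l • z - u') = -1 := by
    rw [herm_sub_left, herm_sub_right hF, herm_sub_right hF, hu11, hu1u, huu1, huu']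
    ring
  have h2 : InS q M ((w1 - w') + (l • z - u')) := hall _ (W.sub_mem hw1W hw') _ (U.sub_mem hu1U hu')
    (by rw [e3]; exact h10) (by rw [e3, e4]; ring)
  have h6 : (1 : F) • (w1 + l • z) + (-1 : F) • ((w1 - w') + (l • z - u')) = w' + u' := by
    rw [one_smul, neg_one_smul]; abel
  have h3 := InS.line hF h1 h2 (by
    rw [herm_add_left, herm_add_right hF, herm_add_right hF, hP.perp w1 hw1W _ (U.sub_mem hu1U hu'),
      hP.perp' _ hu1U _ (W.sub_mem hw1W hw'), herm_sub_right hF, herm_sub_right hF, hμ, hu11, hw1w, hu1u]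
    intro h0
    apply hα0
    linear_combination -h0) 1 (-1) (by rw [h6]; exact hy)
  rwa [h6] at h3

end Cfsg.Agent.H242.StrP.UniGen
end

-- part: H242/StrP/UniTw
section
/-!
# Elements of order `p` of `SU_n(q)` acting on a twisted copy of a hermitian space (helper242, for S2120)

* `exists_su_of_isom` : an isometry of order `p`, `p` prime to `q + 1`, is in `SU_n(q)`;
* `exists_tw` : the element acting as `Y` on the image of `ι` and trivially on its orthogonal complement;
* `exists_iso_mem` : a subspace of dimension at least two contains a non-zero isotropic vector;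
* `projC_ne_one`, `inS_hat`, `top_of_hat`.
-/

set_option autoImplicit false
set_option linter.unusedSectionVars false

namespace Cfsg.Agent.H242.StrP.Uni

open Cfsg Subgroup Cfsg.Agent.H818.StrP Cfsg.Agent.H818.StrP.Opp Cfsg.Agent.PreUniq.Cl Cfsg.Agent.H242.StrP
  Cfsg.Agent.LieClassical.HermBasic Cfsg.Agent.ClassicalGeometry.UnitTransv Cfsg.Agent.ClassicalGeometry.HermOrtho
  Cfsg.Agent.H876

open scoped Matrix MatrixGroups

section Tw

variable {F : Type} [Field F] [Fintype F] {n d q p : ℕ}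

theorem exists_su_of_isom (hF : Fintype.card F = q ^ 2) (hpq : Nat.Coprime p (q + 1))
    {T : Module.End F (Fin n → F)} (hT : ∀ u v, hermForm n F q (T u) (T v) = hermForm n F q u v)
    (hTp : T ^ p = 1) : ∃ A : SU n F q, A ^ p = 1 ∧ ∀ v, act A v = T v := by
  set! M : Matrix (Fin n) (Fin n) F := LinearMap.toMatrix' T with hM
  have hMv : ∀ v, M *ᵥ v = T v := fun v => by rw [hM, LinearMap.toMatrix'_mulVec]
  have hiso : ∀ x y, hermForm n F q (M *ᵥ x) (M *ᵥ y) = hermForm n F q x y := by
    intro x y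
    rw [hMv, hMv, hT]
  have h1 := Cfsg.Agent.ClassicalGeometry.GUBasic.det_pow hF hiso
  have h2 : M.det ^ p = 1 := by
    rw [hM, LinearMap.det_toMatrix', ← map_pow, hTp, map_one]
  have hdet : M.det = 1 := by
    have h3 := pow_gcd_eq_one.2 ⟨h2, h1⟩
    rwa [hpq, pow_one] at h3
  have hact : ∀ v, act (_root_.Cfsg.Agent.ClassicalGeometry.UnitTransv.mk M hdet hiso) v = T v := fun v => by rw [act_mk, hMv]
  have hpow : ∀ k v, act (_root_.Cfsg.Agent.ClassicalGeometry.UnitTransv.mk M hdet hiso ^ k) v = (T ^ k) v := by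
    intro k
    induction k with
    | zero => intro v; rw [pow_zero, pow_zero, act_one, Module.End.one_apply]
    | succ k ih => intro v; rw [pow_succ, pow_succ, act_mul, ih, hact, Module.End.mul_apply]
  refine ⟨_root_.Cfsg.Agent.ClassicalGeometry.UnitTransv.mk M hdet hiso, ?_, hact⟩
  apply ext_act
  intro v
  rw [hpow, hTp, act_one, Module.End.one_apply]

/-- the twisted map -/
def tw (ι : (Fin d → F) →ₗ[F] (Fin n → F)) (κ : (Fin n → F) →ₗ[F] (Fin d → F)) (t Y : Module.End F (Fin d → F)) :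
    Module.End F (Fin n → F) := 1 + ι ∘ₗ (t ∘ₗ ((Y - 1) ∘ₗ κ))

omit [Fintype F] in
theorem tw_apply (ι : (Fin d → F) →ₗ[F] (Fin n → F)) (κ : (Fin n → F) →ₗ[F] (Fin d → F))
    (t Y : Module.End F (Fin d → F)) (v : Fin n → F) : tw ι κ t Y v = v + ι (t (Y (κ v) - κ v)) := rfl

omit [Fintype F] in
theorem tw_one (ι : (Fin d → F) →ₗ[F] (Fin n → F)) (κ : (Fin n → F) →ₗ[F] (Fin d → F))
    (t : Module.End F (Fin d → F)) : tw ι κ t 1 = 1 := by
  refine LinearMap.ext fun v => ?_
  rw [tw_apply, Module.End.one_apply, sub_self, map_zero, map_zero, add_zero, Module.End.one_apply]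

omit [Fintype F] in
theorem tw_mul {ι : (Fin d → F) →ₗ[F] (Fin n → F)} {κ : (Fin n → F) →ₗ[F] (Fin d → F)}
    {t : Module.End F (Fin d → F)} (ht : ∀ c, κ (ι (t c)) = c) (Y Z : Module.End F (Fin d → F)) :
    tw ι κ t Y * tw ι κ t Z = tw ι κ t (Y * Z) := by
  refine LinearMap.ext fun v => ?_
  rw [Module.End.mul_apply, tw_apply, tw_apply, tw_apply, map_add, ht, Module.End.mul_apply, add_assoc, ← map_add,
    ← map_add]
  congr 3
  rw [add_sub_cancel]
  abel

omit [Fintype F] in
theorem tw_pow {ι : (Fin d → F) →ₗ[F] (Fin n → F)} {κ : (Fin n → F) →ₗ[F] (Fin d → F)}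
    {t : Module.End F (Fin d → F)} (ht : ∀ c, κ (ι (t c)) = c) (Y : Module.End F (Fin d → F)) (k : ℕ) :
    tw ι κ t Y ^ k = tw ι κ t (Y ^ k) := by
  induction k with
  | zero => rw [pow_zero, pow_zero, tw_one]
  | succ k ih => rw [pow_succ, pow_succ, ih, tw_mul ht]

theorem herm_eq_swap (hF : Fintype.card F = q ^ 2) {m : ℕ} {u v : Fin n → F} {u' v' : Fin m → F}
    (h : hermForm n F q u v = hermForm m F q u' v') : hermForm n F q v u = hermForm m F q v' u' := by
  rw [herm_swap hF u v, herm_swap hF u' v', h]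

theorem exists_tw (hF : Fintype.card F = q ^ 2) (hpq : Nat.Coprime p (q + 1))
    {ι : (Fin d → F) →ₗ[F] (Fin n → F)} {κ : (Fin n → F) →ₗ[F] (Fin d → F)} {t Y Y' : Module.End F (Fin d → F)}
    (hadj : ∀ v c, hermForm n F q v (ι c) = hermForm d F q (κ v) c) (ht : ∀ c, κ (ι (t c)) = c)
    (htt : ∀ c c', hermForm d F q (t c) c' = hermForm d F q c (t c')) (htY : ∀ c, t (Y' c) = Y' (t c))
    (hY : ∀ c c', hermForm d F q (Y c) c' = hermForm d F q c (Y' c')) (hYY : ∀ c, Y' (Y c) = c)
    (hYp : Y ^ p = 1) : ∃ A : SU n F q, A ^ p = 1 ∧ ∀ v, act A v = v + ι (t (Y (κ v) - κ v)) := by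
  have hadj' : ∀ c v, hermForm n F q (ι c) v = hermForm d F q c (κ v) := fun c v => herm_eq_swap hF (hadj v c)
  have key : ∀ u v, hermForm n F q (tw ι κ t Y u) v = hermForm n F q u (tw ι κ t Y' v) := by
    intro u v
    rw [tw_apply, tw_apply, herm_add_left, herm_add_right hF, hadj, hadj', htt, herm_sub_left, hY, map_sub, htY,
      herm_sub_right hF]
  obtain ⟨A, hAp, hA⟩ := exists_su_of_isom (n := n) hF hpq (T := tw ι κ t Y) (fun u v => by
    rw [key, ← Module.End.mul_apply, tw_mul ht]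
    have : Y' * Y = 1 := LinearMap.ext fun c => hYY c
    rw [this, tw_one, Module.End.one_apply]) (by rw [tw_pow ht, hYp, tw_one])
  exact ⟨A, hAp, fun v => by rw [hA, tw_apply]⟩

/-- a subspace of dimension at least two contains a non-zero isotropic vector -/
theorem exists_iso_mem (hF : Fintype.card F = q ^ 2) {X : Submodule F (Fin n → F)} (hX : 2 ≤ Module.finrank F X) :
    ∃ v ∈ X, v ≠ 0 ∧ hermForm n F q v v = 0 := by
  have hX0 : X ≠ ⊥ := by rintro rfl; rw [finrank_bot] at hX; omega
  obtain ⟨u, hu, hu0⟩ := Submodule.exists_mem_ne_zero_of_ne_bot hX0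
  by_cases huu : hermForm n F q u u = 0
  · exact ⟨u, hu, hu0, huu⟩
  obtain ⟨x, hx, hxu⟩ : ∃ x ∈ X, x ∉ Submodule.span F {u} := by
    by_contra hcon
    push Not at hcon
    have h1 := Submodule.finrank_mono (show X ≤ Submodule.span F {u} from hcon)
    have h2 := finrank_span_singleton (K := F) hu0
    omega
  set! v := x - (hermForm n F q x u / hermForm n F q u u) • u with hv
  have hvX : v ∈ X := X.sub_mem hx (X.smul_mem _ hu)
  have hvu : hermForm n F q v u = 0 := by
    rw [hv, herm_sub_left, herm_smul_left, div_mul_cancel₀ _ huu, sub_self]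
  have huv : hermForm n F q u v = 0 := herm_eq_zero_swap hF hvu
  have hv0 : v ≠ 0 := by
    intro h0
    apply hxu
    rw [hv, sub_eq_zero] at h0
    rw [h0]
    exact Submodule.smul_mem _ _ (Submodule.mem_span_singleton_self u)
  by_cases hvv : hermForm n F q v v = 0
  · exact ⟨v, hvX, hv0, hvv⟩
  obtain ⟨l, hl⟩ := _root_.Cfsg.Agent.LieClassical.HermBasic.exists_norm_eq hF (c := -(hermForm n F q u u / hermForm n F q v v))
    (by rw [neg_pow_q hF, div_pow, herm_self_pow hF, herm_self_pow hF])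
  refine ⟨u + l • v, X.add_mem hu (X.smul_mem _ hvX), ?_, ?_⟩
  · intro h0
    have h1 : hermForm n F q (u + l • v) u = 0 := by rw [h0, herm_zero_left]
    rw [herm_add_left, herm_smul_left, hvu, mul_zero, add_zero] at h1
    exact huu h1
  · rw [herm_add_left, herm_add_right hF, herm_add_right hF, herm_smul_left, herm_smul_right, herm_smul_left,
      herm_smul_right, huv, hvu]
    have h3 : l * l ^ q * hermForm n F q v v = -hermForm n F q u u := by
      rw [hl, neg_mul, div_mul_cancel₀ _ hvv]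
    linear_combination h3

end Tw

section Hat

variable {F : Type} [Field F] [Fintype F] {n q r p : ℕ} {G : Type*} [Group G] [Finite G]
  [hp : Fact p.Prime]

theorem projC_ne_one (hF : Fintype.card F = q ^ 2) (hn : 3 ≤ n) (hpq : Nat.Coprime p (q + 1)) (e : G ≃* PSU n F q)
    {A : SU n F q} (hA : A ^ p = 1) (hA1 : A ≠ 1) : projC e A ≠ 1 := by
  intro h
  obtain ⟨c, hc⟩ := center_smul hF hn ((projC_eq_one_iff e).1 h)
  have : Nontrivial (Fin n) := Fin.nontrivial_iff_two_le.2 (by omega)
  let i0 : Fin n := ⟨0, by omega⟩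
  -- norm
  have h1 : c ^ (q + 1) = 1 := by
    have h2 := herm_act A (Pi.single i0 1) (Pi.single i0 1)
    rw [hc, herm_smul_left, herm_smul_right, herm_single_right hF, Pi.single_eq_same, one_pow, mul_one, mul_one] at h2
    rw [pow_succ']
    exact h2
  have h2 : c ^ p = 1 := by
    have hpow : ∀ k : ℕ, act (A ^ k) (Pi.single i0 1) = c ^ k • (Pi.single i0 1 : Fin n → F) := by
      intro k
      induction k with
      | zero => rw [pow_zero, pow_zero, act_one, one_smul]
      | succ k ih => rw [pow_succ', pow_succ, act_mul, ih, act_smul, hc, smul_smul]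
    have h3 := hpow p
    rw [hA, act_one] at h3
    have h4 := congrFun h3 i0
    rw [Pi.smul_apply, Pi.single_eq_same, smul_eq_mul, mul_one] at h4
    exact h4.symm
  have h3 := pow_gcd_eq_one.2 ⟨h2, h1⟩
  rw [hpq, pow_one] at h3
  apply hA1
  apply ext_act
  intro v
  rw [hc, h3, one_smul, act_one]

/-- the preimage in `GL` of a subgroup -/
noncomputable def hat (e : G ≃* PSU n F q) (M : Subgroup G) : Subgroup (GL (Fin n) F) :=
  (M.comap (projC e)).map (suGL n F q)

omit [Finite G] hp [Fintype F] in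
theorem suGL_injective : Function.Injective (suGL n F q) := by
  intro A B h
  apply ext_act
  intro x
  rw [← suGL_mulVec, ← suGL_mulVec, h]

omit [Finite G] hp [Fintype F] in
theorem mem_hat {e : G ≃* PSU n F q} {M : Subgroup G} {A : SU n F q} : suGL n F q A ∈ hat e M ↔ projC e A ∈ M := by
  constructor
  · rintro ⟨B, hB, h⟩
    rw [← suGL_injective h]
    exact hB
  · intro h
    exact ⟨A, h, rfl⟩

omit [Finite G] hp [Fintype F] in
theorem top_of_hat {e : G ≃* PSU n F q} {M : Subgroup G} (h : GU n F q ⊓ Geo.specialLinear (Fin n) F ≤ hat e M) :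
    M = ⊤ := by
  rw [eq_top_iff]
  intro g _
  obtain ⟨A, rfl⟩ := projC_surjective e g
  exact mem_hat.1 (h (suGL_mem A))

/-- elements commuting with an element of order `p` -/
theorem mem_of_comm {e : G ≃* PSU n F q} {M : Subgroup G} (h : IsStronglyPEmbedded p M) {x : SU n F q}
    (hx : projC e x ∈ M) (hxp : x ^ p = 1) (hx1 : projC e x ≠ 1) {g : SU n F q} (hg : ∀ v, act g (act x v) = act x (act g v)) :
    projC e g ∈ M := by
  refine mem_of_commute h hx (by rw [← map_pow, hxp, map_one]) hx1 ?_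
  rw [← map_mul, ← map_mul]
  congr 1
  apply ext_act
  intro v
  rw [act_mul, act_mul, hg]

theorem inS_hat (hF : Fintype.card F = q ^ 2) {e : G ≃* PSU n F q} {M : Subgroup G} (h : IsStronglyPEmbedded p M)
    {x : SU n F q} (hx : projC e x ∈ M) (hxp : x ^ p = 1) (hx1 : projC e x ≠ 1) {v : Fin n → F}
    (hv : hermForm n F q v v = 0) (hxv : act x v = v) : InS q (hat e M) v := by
  refine inS_of_forall hF hv fun c hc => mem_hat.2 (mem_of_comm h hx hxp hx1 fun u => ?_)
  rw [act_utv, act_utv, act_add, act_smul, hxv]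
  congr 2
  rw [← herm_act x u v, hxv]

end Hat

end Cfsg.Agent.H242.StrP.Uni
end

-- part: H242/StrP/UniFrame
section
/-!
# `PSU_n(q)`, `p` prime to `q + 1`: the case of two orthogonal isometric `p`-modules (helper242, for S2120)

`noSP_of_frame` : `b`, `b'` orthonormal and orthogonal families of `d` vectors, `3 ≤ d`, `d + 3 ≤ n`, and a unitary
`Y` of order `p` without fixed vectors and with `3 + Y + Y⁻¹` injective.
-/

set_option autoImplicit false
set_option linter.unusedSectionVars false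

namespace Cfsg.Agent.H242.StrP.Uni

open Cfsg Subgroup Cfsg.Agent.H818.StrP Cfsg.Agent.H818.StrP.Opp Cfsg.Agent.PreUniq.Cl Cfsg.Agent.H242.StrP
  Cfsg.Agent.LieClassical.HermBasic Cfsg.Agent.ClassicalGeometry.UnitTransv Cfsg.Agent.ClassicalGeometry.HermOrtho
  Cfsg.Agent.H876

open scoped Matrix MatrixGroups

variable {F : Type} [Field F] [Fintype F] {n d q r p : ℕ} {G : Type*} [Group G] [Finite G]
  [hp : Fact p.Prime]

/-- the inclusion given by a family -/
def emb (b : Fin d → (Fin n → F)) : (Fin d → F) →ₗ[F] (Fin n → F) := Fintype.linearCombination F b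

/-- the projection given by a family -/
def prj (q : ℕ) (b : Fin d → (Fin n → F)) : (Fin n → F) →ₗ[F] (Fin d → F) := LinearMap.pi fun i => hermLeft q (b i)

omit [Fintype F] in
theorem emb_apply (b : Fin d → (Fin n → F)) (c : Fin d → F) : emb b c = ∑ i, c i • b i := by
  rw [emb, Fintype.linearCombination_apply]

omit [Fintype F] in
theorem prj_apply (b : Fin d → (Fin n → F)) (v : Fin n → F) (i : Fin d) : prj q b v i = hermForm n F q v (b i) := rfl

theorem herm_emb (hF : Fintype.card F = q ^ 2) (b : Fin d → (Fin n → F)) (v : Fin n → F) (c : Fin d → F) :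
    hermForm n F q v (emb b c) = hermForm d F q (prj q b v) c := by
  rw [emb_apply, herm_sum_right hF, herm_def (n := d)]
  refine Finset.sum_congr rfl fun i _ => ?_
  rw [herm_smul_right, prj_apply, mul_comm]

omit [Fintype F] in
theorem prj_emb {b : Fin d → (Fin n → F)} (hb : ∀ i j, hermForm n F q (b i) (b j) = if i = j then 1 else 0)
    (c : Fin d → F) : prj q b (emb b c) = c := by
  funext j
  rw [prj_apply, emb_apply, herm_sum_smul_left hb]

omit [Fintype F] in
theorem prj_emb_zero {b b' : Fin d → (Fin n → F)} (hb : ∀ i j, hermForm n F q (b i) (b' j) = 0)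
    (c : Fin d → F) : prj q b' (emb b c) = 0 := by
  funext j
  rw [prj_apply, emb_apply, herm_sum_left]
  refine Finset.sum_eq_zero fun i _ => ?_
  rw [herm_smul_left, hb, mul_zero]

/-- **Two orthogonal isometric modules.** -/
theorem noSP_of_frame (hF : Fintype.card F = q ^ 2) (hp2 : p ≠ 2) (hpq : Nat.Coprime p (q + 1))
    (e : G ≃* PSU n F q) (hd : 3 ≤ d) (hdn : d + 3 ≤ n) {b b' : Fin d → (Fin n → F)}
    (hb : ∀ i j, hermForm n F q (b i) (b j) = if i = j then 1 else 0)
    (hb' : ∀ i j, hermForm n F q (b' i) (b' j) = if i = j then 1 else 0)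
    (hbb : ∀ i j, hermForm n F q (b i) (b' j) = 0) {Y Y' : Module.End F (Fin d → F)}
    (hY : ∀ c c', hermForm d F q (Y c) c' = hermForm d F q c (Y' c')) (hYY : ∀ c, Y' (Y c) = c)
    (hYY' : ∀ c, Y (Y' c) = c) (hYp : Y ^ p = 1) (hfix : ∀ c, Y c = c → c = 0)
    (hs : ∀ c, Y c + Y' c + (3 : F) • c = 0 → c = 0) : NoSP p G := by
  have hn : 3 ≤ n := by omega
  have h32 : ¬ (n = 3 ∧ q = 2) := by omega
  have hbb' : ∀ i j, hermForm n F q (b' i) (b j) = 0 := fun i j => herm_eq_zero_swap hF (hbb j i)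
  have hne : Nonempty (Fin d) := ⟨⟨0, by omega⟩⟩
  have : Nontrivial (Fin d → F) := Function.nontrivial
  obtain ⟨c1, hc1⟩ := exists_ne (0 : Fin d → F)
  -- the maps
  set! ι := emb b with hι
  set! ι' := emb b' with hι'
  set! κ := prj q b with hκ
  set! κ' := prj q b' with hκ'
  have k1 : ∀ c, κ (ι c) = c := prj_emb hb
  have k2 : ∀ c, κ' (ι' c) = c := prj_emb hb'
  have k3 : ∀ c, κ' (ι c) = 0 := prj_emb_zero hbb
  have k4 : ∀ c, κ (ι' c) = 0 := prj_emb_zero hbb'
  have hY' : ∀ c c', hermForm d F q (Y' c) c' = hermForm d F q c (Y c') := fun c c' =>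
    (herm_eq_swap hF (hY c' c)).symm
  -- the elements `A`, `A'`
  obtain ⟨A, hAp, hA⟩ := exists_tw (n := n) hF hpq (ι := ι) (κ := κ) (t := 1) (Y := Y) (Y' := Y') (herm_emb hF b)
    (fun c => k1 c) (fun _ _ => rfl) (fun _ => rfl) hY hYY hYp
  obtain ⟨A', hAp', hA'⟩ := exists_tw (n := n) hF hpq (ι := ι') (κ := κ') (t := 1) (Y := Y) (Y' := Y') (herm_emb hF b')
    (fun c => k2 c) (fun _ _ => rfl) (fun _ => rfl) hY hYY hYp
  simp only [Module.End.one_apply] at hA hA'
  have hAc : ∀ v, act A (act A' v) = act A' (act A v) := by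
    intro v
    rw [hA, hA', hA', hA, map_add κ, map_add κ', k4, k3, add_zero, add_zero]
    abel
  have hAA : A * A' = A' * A := by
    apply ext_act
    intro v
    rw [act_mul, act_mul, hAc]
  -- `A ≠ 1` etc.
  have hA1 : A ≠ 1 := by
    intro h
    have h1 := hA (ι c1)
    rw [h, act_one, k1] at h1
    have h2 : ι (Y c1 - c1) = 0 := by
      have := left_eq_add.1 h1
      exact this
    have h3 : Y c1 - c1 = 0 := by rw [← k1 (Y c1 - c1), h2, map_zero]
    exact hc1 (hfix c1 (sub_eq_zero.1 h3))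
  have hA1' : A' ≠ 1 := by
    intro h
    have h1 := hA' (ι' c1)
    rw [h, act_one, k2] at h1
    have h2 : ι' (Y c1 - c1) = 0 := by
      have := left_eq_add.1 h1
      exact this
    have h3 : Y c1 - c1 = 0 := by rw [← k2 (Y c1 - c1), h2, map_zero]
    exact hc1 (hfix c1 (sub_eq_zero.1 h3))
  have hE1 : A * A' ≠ 1 := by
    intro h
    have h1 : act (A * A') (ι c1) = ι c1 := by rw [h, act_one]
    rw [act_mul, hA', k3, map_zero, sub_zero, map_zero, add_zero, hA, k1] at h1
    have h2 : ι (Y c1 - c1) = 0 := by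
      have := add_eq_left.1 h1
      exact this
    have h3 : Y c1 - c1 = 0 := by rw [← k1 (Y c1 - c1), h2, map_zero]
    exact hc1 (hfix c1 (sub_eq_zero.1 h3))
  have hEp : (A * A') ^ p = 1 := by rw [Commute.mul_pow hAA, hAp, hAp', one_mul]
  have hpA := projC_ne_one hF hn hpq e hAp hA1
  have hpA' := projC_ne_one hF hn hpq e hAp' hA1'
  have hpE := projC_ne_one hF hn hpq e hEp hE1
  -- the strongly embedded subgroup
  intro M0 hM0
  have hE := pair_elem (p := p) (x := projC e A) (y := projC e A') (by rw [← map_pow, hAp, map_one])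
    (by rw [← map_pow, hAp', map_one]) (by rw [← map_mul, ← map_mul, hAA])
  obtain ⟨M, hM, hEM⟩ := exists_ge hM0 (E := _root_.Subgroup.closure {projC e A, projC e A'})
    (fun a => ⟨1, Subtype.ext (by rw [pow_one]; exact hE.2 a.1 a.2)⟩)
  have mA : projC e A ∈ M := hEM (_root_.Subgroup.subset_closure (Or.inl rfl))
  have mA' : projC e A' ∈ M := hEM (_root_.Subgroup.subset_closure (Or.inr rfl))
  have mE : projC e (A * A') ∈ M := by rw [map_mul]; exact M.mul_mem mA mA'
  -- the element `x`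
  set! s : Module.End F (Fin d → F) := Y + Y' + (3 : F) • 1 with hsdef
  have hsa : ∀ c, s c = Y c + Y' c + (3 : F) • c := fun c => rfl
  have hsinj : Function.Injective s := by
    rw [injective_iff_map_eq_zero]
    intro c hc
    exact hs c (by rw [← hsa, hc])
  set! t : Module.End F (Fin d → F) := ((LinearEquiv.ofInjectiveEndo s hsinj).symm : (Fin d → F) →ₗ[F] (Fin d → F)) with htdef
  have hst : ∀ c, s (t c) = c := fun c => (LinearEquiv.ofInjectiveEndo s hsinj).apply_symm_apply c
  have hts : ∀ c, t (s c) = c := fun c => hsinj (hst (s c))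
  have hss : ∀ c c', hermForm d F q (s c) c' = hermForm d F q c (s c') := by
    intro c c'
    have h3 : (3 : F) ^ q = 3 := by
      have h1 : (3 : F) = 1 + 1 + 1 := by norm_num
      rw [h1, add_pow_q hF, add_pow_q hF, one_pow]
    rw [hsa, hsa, herm_add_left, herm_add_left, herm_add_right hF, herm_add_right hF, hY, hY', herm_smul_left,
      herm_smul_right, h3]
    ring
  have htt : ∀ c c', hermForm d F q (t c) c' = hermForm d F q c (t c') := by
    intro c c'
    have := hss (t c) (t c')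
    rw [hst, hst] at this
    exact this.symm
  have hsY : ∀ c, s (Y c) = Y (s c) := by
    intro c
    rw [hsa, hsa, map_add, map_add, map_smul, hYY, hYY']
  have hsY' : ∀ c, s (Y' c) = Y' (s c) := by
    intro c
    rw [hsa, hsa, map_add, map_add, map_smul, hYY, hYY']
  have htY : ∀ c, t (Y c) = Y (t c) := by
    intro c
    apply hsinj
    rw [hst, hsY, hst]
  have htY' : ∀ c, t (Y' c) = Y' (t c) := by
    intro c
    apply hsinj
    rw [hst, hsY', hst]
  -- `η = ι + ι' (1 + Y)`, `θ = κ + (1 + Y') κ'`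
  set! η : (Fin d → F) →ₗ[F] (Fin n → F) := ι + ι' ∘ₗ (1 + Y) with hη
  set! θ : (Fin n → F) →ₗ[F] (Fin d → F) := κ + (1 + Y') ∘ₗ κ' with hθ
  have hηa : ∀ c, η c = ι c + ι' (c + Y c) := fun c => rfl
  have hθa : ∀ v, θ v = κ v + (κ' v + Y' (κ' v)) := fun v => rfl
  have hθη : ∀ c, θ (η c) = s c := by
    intro c
    rw [hθa, hηa, map_add κ, map_add κ', k1, k3, k2, k4, hsa, zero_add, add_zero, map_add, hYY]
    have : (3 : F) • c = c + c + c := by
      rw [show (3 : F) = 1 + 1 + 1 by norm_num, add_smul, add_smul, one_smul]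
    rw [this]
    abel
  have hadj : ∀ v c, hermForm n F q v (η c) = hermForm d F q (θ v) c := by
    intro v c
    rw [hηa, hθa, herm_add_right hF, herm_add_left, hι, hι', herm_emb hF, herm_emb hF, herm_add_right hF,
      herm_add_left, hY', ← hκ, ← hκ']
  obtain ⟨x, hxp, hx⟩ := exists_tw (n := n) hF hpq (ι := η) (κ := θ) (t := t) (Y := Y) (Y' := Y') hadj
    (fun c => by rw [hθη, hst]) htt htY' hY hYY hYp
  -- `x` commutes with `A A'`
  have hEη : ∀ c, act (A * A') (η c) = η (Y c) := by
    intro c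
    rw [act_mul, hA', hηa, hηa, map_add κ', k3, k2, zero_add]
    rw [hA]
    simp only [map_add, map_sub, k1, k4]
    simp only [add_zero, sub_zero, map_zero]
    abel
  have hθE : ∀ v, θ (act (A * A') v) = Y (θ v) := by
    intro v
    rw [act_mul, hA', hA, hθa, hθa]
    simp only [map_add, map_sub, k1, k2, k3, k4, hYY, hYY']
    simp only [add_zero, sub_zero, map_zero]
    abel
  have hxE : ∀ v, act x (act (A * A') v) = act (A * A') (act x v) := by
    intro v
    rw [hx, hx, act_add, hθE, hEη, ← htY, map_sub Y]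
  have mx : projC e x ∈ M := mem_of_comm hM mE hEp hpE hxE
  have hx1 : x ≠ 1 := by
    intro h
    have h1 := hx (η c1)
    rw [h, act_one, hθη, ← hsY, ← map_sub s, hts] at h1
    have h2 : η (Y c1 - c1) = 0 := by
      have := left_eq_add.1 h1
      exact this
    have h3 : Y c1 - c1 = 0 := by
      apply hsinj
      rw [← hθη, h2, map_zero, map_zero]
    exact hc1 (hfix c1 (sub_eq_zero.1 h3))
  have hpx := projC_ne_one hF hn hpq e hxp hx1
  -- an isotropic vector in the kernel of `θ`
  set! δ : (Fin d → F) →ₗ[F] (Fin n → F) := ι' - ι ∘ₗ (1 + Y') with hδ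
  have hδa : ∀ c, δ c = ι' c - ι (c + Y' c) := fun c => rfl
  have hθδ : ∀ c, θ (δ c) = 0 := by
    intro c
    rw [hθa, hδa]
    simp only [map_add, map_sub, k1, k2, k3, k4]
    simp only [zero_sub, sub_zero, add_zero]
    simp only [map_zero, add_zero, sub_zero]
    abel
  have hδinj : Function.Injective δ := by
    rw [injective_iff_map_eq_zero]
    intro c hc
    have h1 : κ' (δ c) = c := by
      rw [hδa]
      simp only [map_add, map_sub, k2, k3]
      simp
    rw [← h1, hc, map_zero]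
  obtain ⟨v, ⟨c, rfl⟩, hc0, hcv⟩ := exists_iso_mem hF (X := LinearMap.range δ) (by
    rw [LinearMap.finrank_range_of_inj hδinj, Module.finrank_fin_fun]
    omega)
  have hcc : c ≠ 0 := by rintro rfl; exact hc0 (map_zero δ)
  have hS := inS_hat hF hM mx hxp hpx hcv (by rw [hx, hθδ, map_zero, sub_zero, map_zero, map_zero, add_zero])
  -- the decomposition
  set! W : Submodule F (Fin n → F) := LinearMap.range ι with hW
  have hWnd : Nd q W := by
    rintro _ ⟨c, rfl⟩ h
    have h1 : c = 0 := herm_nondeg hF fun c' => by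
      rw [← h (ι c') ⟨c', rfl⟩, hι, herm_emb hF, ← hκ, ← hι, k1]
    rw [h1, map_zero]
  have hP : PerpPair q W (hermPerp q (W : Set (Fin n → F))) := perpPair_of_nd hF hWnd
  have hιinj : Function.Injective ι := fun c c' h => by rw [← k1 c, h, k1]
  have hWd : Module.finrank F W = d := by
    rw [hW, LinearMap.finrank_range_of_inj hιinj, Module.finrank_fin_fun]
  have hUd : Module.finrank F (hermPerp q (W : Set (Fin n → F))) = n - d := by
    have := finrank_hermPerp_of_nondeg hF W hWnd
    omega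
  have hU' : ∀ c, ι' c ∈ hermPerp q (W : Set (Fin n → F)) := by
    intro c
    rw [mem_hermPerp]
    rintro _ ⟨c', rfl⟩
    rw [hι, herm_emb hF, ← hκ, k4, herm_zero_left]
  have key := UniGen.gen_of_mixed hF hn h32 hP (by rw [hWd]; exact hd) (by rw [hUd]; omega) (M := hat e M) ?_ ?_
    (w := -ι (c + Y' c)) (u := ι' c) (W.neg_mem ⟨_, rfl⟩) ?_ (hU' c) ?_ ?_
  · exact hM.2.1 (top_of_hat key)
  · -- fixing `W^⊥` pointwise
    intro g hg hfg
    obtain ⟨B, rfl⟩ := exists_suGL_eq hg
    refine mem_hat.2 (mem_of_comm hM mA' hAp' hpA' fun v => ?_)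
    have h1 : ∀ c, act B (ι' c) = ι' c := fun c => by rw [← suGL_mulVec]; exact hfg _ (hU' c)
    have h2 : κ' (act B v) = κ' v := by
      refine sub_eq_zero.1 (herm_nondeg hF fun c' => ?_)
      rw [herm_sub_left, ← herm_emb hF, ← herm_emb hF, ← hι', sub_eq_zero]
      conv_lhs => rw [← h1 c', herm_act]
    rw [hA', act_add, h1, hA', h2]
  · -- fixing `W` pointwise
    intro g hg hfg
    obtain ⟨B, rfl⟩ := exists_suGL_eq hg
    refine mem_hat.2 (mem_of_comm hM mA hAp hpA fun v => ?_)
    have h1 : ∀ c, act B (ι c) = ι c := fun c => by rw [← suGL_mulVec]; exact hfg _ ⟨c, rfl⟩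
    have h2 : κ (act B v) = κ v := by
      refine sub_eq_zero.1 (herm_nondeg hF fun c' => ?_)
      rw [herm_sub_left, ← herm_emb hF, ← herm_emb hF, ← hι, sub_eq_zero]
      conv_lhs => rw [← h1 c', herm_act]
    rw [hA, act_add, h1, hA, h2]
  · rw [neg_ne_zero]
    intro h0
    have h1 : c + Y' c = 0 := hιinj (by rw [h0, map_zero])
    have h2 : Y' c = -c := by rw [← neg_eq_of_add_eq_zero_right h1]
    have h3 : Y c = -c := by
      have := congrArg Y h2
      rw [hYY', map_neg] at this
      exact eq_neg_iff_add_eq_zero.2 (by rw [add_comm]; exact eq_neg_iff_add_eq_zero.1 this)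
    have h4 : ∀ k : ℕ, (Y ^ k) c = (-1 : F) ^ k • c := by
      intro k
      induction k with
      | zero => rw [pow_zero, pow_zero, Module.End.one_apply, one_smul]
      | succ k ih =>
        rw [pow_succ', Module.End.mul_apply, ih, map_smul, h3, pow_succ, mul_smul, neg_one_smul]
    have h5 := h4 p
    rw [hYp, Module.End.one_apply, (hp.out.odd_of_ne_two hp2).neg_one_pow, neg_one_smul] at h5
    exact hcc (hfix c (by rw [h3]; exact h5.symm))
  · intro h0
    apply hcc
    rw [← k2 c, h0, map_zero]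
  · have : -ι (c + Y' c) + ι' c = δ c := by rw [hδa]; abel
    rw [this]
    exact hS

end Cfsg.Agent.H242.StrP.Uni
end

-- part: H242/StrP/UniIrr
section
/-!
# `PSU_n(q)`, `p` prime to `q + 1`: irreducible modules of an elementary abelian `p`-group (helper242, for S2120)

* `Irr.noeig`, `Irr.quad` : an element of order `p` without fixed points satisfies no quadratic equation;
* `Irr.three_le` : the dimension is at least three.
-/

set_option autoImplicit false
set_option linter.unusedSectionVars false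

namespace Cfsg.Agent.H242.StrP.Uni

open Cfsg Subgroup Cfsg.Agent.H818.StrP Cfsg.Agent.H818.StrP.Opp Cfsg.Agent.PreUniq.Cl Cfsg.Agent.H242.StrP
  Cfsg.Agent.LieClassical.HermBasic Cfsg.Agent.ClassicalGeometry.UnitTransv Cfsg.Agent.ClassicalGeometry.HermOrtho
  Cfsg.Agent.H876

open scoped Matrix MatrixGroups

variable {F : Type} [Field F] [Fintype F] {n q r p : ℕ}

/-- irreducible, non-degenerate invariant subspaces -/
structure Irr (q : ℕ) (E : Subgroup (SU n F q)) (W : Submodule F (Fin n → F)) : Prop where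
  ne : W ≠ ⊥
  nd : Nd q W
  stab : ∀ x ∈ E, ∀ w ∈ W, act x w ∈ W
  min : ∀ W' ≤ W, W' ≠ ⊥ → (∀ x ∈ E, ∀ w ∈ W', act x w ∈ W') → W' = W

variable {E : Subgroup (SU n F q)} {W : Submodule F (Fin n → F)}

omit [Fintype F] in
theorem Irr.schur (h : Irr q E W) (T : Module.End F (Fin n → F)) (hT : ∀ x ∈ E, ∀ v, T (act x v) = act x (T v))
    {w : Fin n → F} (hw : w ∈ W) (hw0 : w ≠ 0) (hTw : T w = 0) {w' : Fin n → F} (hw' : w' ∈ W) : T w' = 0 := by
  have h1 : W ⊓ LinearMap.ker T = W := by
    refine h.min _ inf_le_left ?_ ?_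
    · intro h0
      have h2 : w ∈ W ⊓ LinearMap.ker T := ⟨hw, hTw⟩
      rw [h0] at h2
      exact hw0 h2
    · rintro x hx v ⟨hv, hv'⟩
      refine ⟨h.stab x hx v hv, ?_⟩
      show T (act x v) = 0
      rw [hT x hx, show T v = 0 from hv', act_zero]
  have h2 : w' ∈ W ⊓ LinearMap.ker T := by rw [h1]; exact hw'
  exact h2.2

omit [Fintype F] in
theorem comm_act (hc : ∀ x ∈ E, ∀ y ∈ E, x * y = y * x) {x y : SU n F q} (hx : x ∈ E) (hy : y ∈ E) (v : Fin n → F) :
    act x (act y v) = act y (act x v) := by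
  rw [← act_mul, ← act_mul, hc x hx y hy]

/-- `y` has no eigenvectors. -/
theorem Irr.noeig (hF : Fintype.card F = q ^ 2) (hpq : Nat.Coprime p (q + 1)) (h : Irr q E W)
    (hc : ∀ x ∈ E, ∀ y ∈ E, x * y = y * x) {y : SU n F q} (hy : y ∈ E) (hyp : y ^ p = 1)
    (hfix : ∀ w ∈ W, act y w = w → w = 0) {l : F} {w : Fin n → F} (hw : w ∈ W) (hw0 : w ≠ 0) :
    act y w ≠ l • w := by
  intro h1
  have hall : ∀ w' ∈ W, act y w' = l • w' := by
    intro w' hw'
    have h2 := h.schur (rhoU n q F y - l • 1) (by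
      intro x hx v
      show act y (act x v) - l • act x v = act x (act y v - l • v)
      rw [act_sub, act_smul, comm_act hc hy hx]) hw hw0 (by
      show act y w - l • w = 0
      rw [h1, sub_self]) hw'
    exact sub_eq_zero.1 h2
  obtain ⟨v, hv, hv1⟩ := exists_norm_one_vector hF W h.nd h.ne
  have h3 : l ^ (q + 1) = 1 := by
    have h2 := herm_act y v v
    rw [hall v hv, herm_smul_left, herm_smul_right, hv1, mul_one] at h2
    rw [pow_succ']
    exact h2
  have hv0 : v ≠ 0 := by
    rintro rfl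
    rw [herm_zero_left] at hv1
    exact zero_ne_one hv1
  have h4 : l ^ p = 1 := by
    have hpow : ∀ k : ℕ, act (y ^ k) v = l ^ k • v := by
      intro k
      induction k with
      | zero => rw [pow_zero, pow_zero, act_one, one_smul]
      | succ k ih => rw [pow_succ', pow_succ, act_mul, ih, act_smul, hall v hv, smul_smul]
    have h5 := hpow p
    rw [hyp, act_one] at h5
    have h6 : (l ^ p - 1) • v = 0 := by rw [sub_smul, one_smul, ← h5, sub_self]
    exact sub_eq_zero.1 ((smul_eq_zero.1 h6).resolve_right hv0)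
  have h5 := pow_gcd_eq_one.2 ⟨h4, h3⟩
  rw [hpq, pow_one] at h5
  apply hv0
  apply hfix v hv
  rw [hall v hv, h5, one_smul]

/-- if `y ^ (q ^ 2 - 1)` is trivial then `y` has an eigenvector -/
theorem Irr.exists_eig (hF : Fintype.card F = q ^ 2) (h : Irr q E W) {y : SU n F q} (hy : y ∈ E)
    (hq : ∀ w ∈ W, act (y ^ q ^ 2) w = act y w) : ∃ l : F, ∃ w ∈ W, w ≠ 0 ∧ act y w = l • w := by
  have hpow : ∀ (k : ℕ) (w : W), ((((rhoU n q F y).restrict (h.stab y hy)) ^ k) w : Fin n → F) = act (y ^ k) w := by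
    intro k
    induction k with
    | zero => intro w; rw [pow_zero, pow_zero, act_one, Module.End.one_apply]
    | succ k ih =>
      intro w
      rw [pow_succ, pow_succ, Module.End.mul_apply, act_mul, ih]
      rfl
  set T : Module.End F W := (rhoU n q F y).restrict (h.stab y hy) with hT
  have hTW : T ^ (q ^ 2) = T := by
    refine LinearMap.ext fun w => Subtype.ext ?_
    rw [hpow, hq w w.2]
    rfl
  have hnt : Nontrivial W := Submodule.nontrivial_iff_ne_bot.2 h.ne
  have hdvd : minpoly F T ∣ (Polynomial.X ^ Fintype.card F - Polynomial.X : Polynomial F) := by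
    apply minpoly.dvd
    rw [map_sub, map_pow, Polynomial.aeval_X, hF, hTW, sub_self]
  have hsp : (Polynomial.X ^ Fintype.card F - Polynomial.X : Polynomial F).Splits := by
    have := (FiniteField.isSplittingField_sub F F).splits
    rwa [Algebra.algebraMap_self, Polynomial.map_id] at this
  have hsp2 := hsp.of_dvd (FiniteField.X_pow_card_sub_X_ne_zero _ Fintype.one_lt_card) hdvd
  obtain ⟨l, hl⟩ := hsp2.exists_eval_eq_zero (by
    have := minpoly.degree_pos (Algebra.IsIntegral.isIntegral (R := F) T)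
    exact this.ne')
  have h1 := Module.End.hasEigenvalue_of_isRoot (f := T) (μ := l) hl
  obtain ⟨w, hw⟩ := h1.exists_hasEigenvector
  refine ⟨l, w, w.2, fun h0 => hw.2 (Subtype.ext h0), ?_⟩
  exact congrArg Subtype.val hw.apply_eq_smul

omit [Fintype F] in
theorem fix_zpow {y : SU n F q} {v : Fin n → F} (h : act y v = v) (k : ℤ) : act (y ^ k) v = v := by
  have hinv : act y⁻¹ v = v := by
    conv_lhs => rw [← h]
    rw [act_inv_act]
  have hpow : ∀ (z : SU n F q), act z v = v → ∀ k : ℕ, act (z ^ k) v = v := by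
    intro z hz k
    induction k with
    | zero => rw [pow_zero, act_one]
    | succ k ih => rw [pow_succ, act_mul, hz, ih]
  obtain ⟨m, rfl | rfl⟩ := k.eq_nat_or_neg
  · rw [zpow_natCast]; exact hpow y h m
  · rw [zpow_neg, zpow_natCast, ← inv_pow]; exact hpow y⁻¹ hinv m

/-- **No quadratic equations.** -/
theorem Irr.quad (hF : Fintype.card F = q ^ 2) (hpq : Nat.Coprime p (q + 1)) (h : Irr q E W)
    (hc : ∀ x ∈ E, ∀ y ∈ E, x * y = y * x) {y : SU n F q} (hy : y ∈ E) (hyp : y ^ p = 1)
    (hfix : ∀ w ∈ W, act y w = w → w = 0) {c1 c0 : F} (hc0 : c0 ^ p = 1) {w : Fin n → F} (hw : w ∈ W)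
    (hw0 : w ≠ 0) : act y (act y w) + c1 • act y w + c0 • w ≠ 0 := by
  intro h1
  have hnoe : ∀ {l : F} {w : Fin n → F}, w ∈ W → w ≠ 0 → act y w ≠ l • w := fun hw hw0 =>
    h.noeig hF hpq hc hy hyp hfix hw hw0
  have hall : ∀ w' ∈ W, act y (act y w') + c1 • act y w' + c0 • w' = 0 := by
    intro w' hw'
    exact h.schur (rhoU n q F y * rhoU n q F y + c1 • rhoU n q F y + c0 • 1) (by
      intro x hx v
      show act y (act y (act x v)) + c1 • act y (act x v) + c0 • act x v =
        act x (act y (act y v) + c1 • act y v + c0 • v)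
      rw [act_add, act_add, act_smul, act_smul, comm_act hc hy hx, comm_act hc hy hx]) hw hw0 h1 hw'
  have hyi : ∀ w ∈ W, act y⁻¹ w ∈ W := h.stab _ (E.inv_mem hy)
  -- the adjoint equation
  have hadj : ∀ u ∈ W, u + c1 ^ q • act y u + c0 ^ q • act y (act y u) = 0 := by
    intro u hu
    refine h.nd _ (W.add_mem (W.add_mem hu (W.smul_mem _ (h.stab y hy u hu)))
      (W.smul_mem _ (h.stab y hy _ (h.stab y hy u hu)))) fun v hv => ?_
    set! v' := act y⁻¹ (act y⁻¹ v) with hv'
    have hv'W : v' ∈ W := hyi _ (hyi _ hv)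
    have e1 : v = act y (act y v') := by rw [hv', act_act_inv, act_act_inv]
    have e2 : hermForm n F q u (act y (act y v') + c1 • act y v' + c0 • v') = 0 := by
      rw [hall v' hv'W, herm_zero_right hF]
    rw [herm_add_right hF, herm_add_right hF, herm_smul_right, herm_smul_right] at e2
    rw [herm_add_left, herm_add_left, herm_smul_left, herm_smul_left, e1, herm_act y, herm_act y, herm_act y]
    exact e2
  -- the coefficients
  have hcoef : c1 ^ q = c0 ^ q * c1 ∧ c0 ^ (q + 1) = 1 := by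
    have e3 : (c1 ^ q - c0 ^ q * c1) • act y w + (1 - c0 ^ (q + 1)) • w = 0 := by
      have e4 := hadj w hw
      have e5 : act y (act y w) = -(c1 • act y w) - c0 • w := by
        rw [sub_eq_add_neg, eq_comm, ← sub_eq_zero]
        rw [← neg_eq_zero]
        rw [← hall w hw]
        abel
      rw [e5] at e4
      rw [← e4, pow_succ]
      module
    by_cases h0 : c1 ^ q - c0 ^ q * c1 = 0
    · rw [h0, zero_smul, zero_add] at e3
      exact ⟨sub_eq_zero.1 h0, (sub_eq_zero.1 ((smul_eq_zero.1 e3).resolve_right hw0)).symm⟩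
    · exfalso
      refine hnoe (l := -((c1 ^ q - c0 ^ q * c1)⁻¹ * (1 - c0 ^ (q + 1)))) hw hw0 ?_
      have e4 : (c1 ^ q - c0 ^ q * c1)⁻¹ • ((c1 ^ q - c0 ^ q * c1) • act y w + (1 - c0 ^ (q + 1)) • w) = 0 := by
        rw [e3, smul_zero]
      rw [smul_add, smul_smul, smul_smul, inv_mul_cancel₀ h0, one_smul] at e4
      rw [neg_smul]
      exact eq_neg_of_add_eq_zero_left e4
  have hc01 : c0 = 1 := by
    have h5 := pow_gcd_eq_one.2 ⟨hc0, hcoef.2⟩
    rwa [hpq, pow_one] at h5
  subst hc01
  have hc1 : c1 ^ q = c1 := by rw [hcoef.1, one_pow, one_mul]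
  -- the equation for `y ^ q`
  have hfrob : ∀ w ∈ W, act (y ^ (2 * q)) w + c1 • act (y ^ q) w + w = 0 := by
    intro w hw
    obtain ⟨r, k, hr, hchar, hk, -⟩ := exists_prime_pow hF
    have := Fact.mk hr
    have hP : (Polynomial.X ^ 2 + Polynomial.C c1 * Polynomial.X + 1 : Polynomial F) ^ q =
        Polynomial.X ^ (2 * q) + Polynomial.C c1 * Polynomial.X ^ q + 1 := by
      have e1 : (Polynomial.X ^ 2 + Polynomial.C c1 * Polynomial.X + 1 : Polynomial F) ^ r ^ k =
        (Polynomial.X ^ 2) ^ r ^ k + (Polynomial.C c1 * Polynomial.X) ^ r ^ k + 1 ^ r ^ k := by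
        rw [add_pow_char_pow, add_pow_char_pow]
      rw [← hk] at e1
      rw [e1, mul_pow, ← Polynomial.C_pow, hc1, one_pow, ← pow_mul]
    have e2 := congrArg (fun P => (Polynomial.aeval (rhoU n q F y) P) w) hP
    simp only [map_pow, map_add, map_mul, Polynomial.aeval_X, Polynomial.aeval_C, map_one] at e2
    have hnil : ∀ T : Module.End F (Fin n → F), T w = 0 → (T ^ q) w = 0 := by
      intro T hT
      obtain ⟨m, hm⟩ : ∃ m, q = m + 1 := ⟨q - 1, by have := two_le hF; omega⟩
      rw [hm, pow_succ, Module.End.mul_apply, hT, map_zero]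
    rw [hnil _ (by
        have e4 := hall w hw
        rw [one_smul] at e4
        rw [sq]
        exact e4)] at e2
    have e5 : (rhoU n q F (y ^ (2 * q)) + algebraMap F (Module.End F (Fin n → F)) c1 * rhoU n q F (y ^ q) + 1) w = 0 := by
      rw [map_pow, map_pow]
      exact e2.symm
    exact e5
  -- the factorization
  have hyw : act y w ∈ W := h.stab y hy w hw
  have hyiw : act y⁻¹ w ∈ W := hyi w hw
  set! u := act (y ^ q) w - act y⁻¹ w with hu
  have huW : u ∈ W := W.sub_mem (h.stab _ (E.pow_mem hy q) w hw) hyiw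
  have hsum : act y w + act y⁻¹ w = -(c1 • w) := by
    have e4 := hall _ hyiw
    rw [act_act_inv, one_smul] at e4
    rw [eq_neg_iff_add_eq_zero, ← e4]
    abel
  have hfac : act (y ^ q) u = act y u := by
    rw [hu, act_sub, act_sub, ← act_mul, ← pow_add, ← two_mul, act_act_inv]
    have e5 : act (y ^ q) (act y w + act y⁻¹ w) = -(c1 • act (y ^ q) w) := by
      rw [hsum, ← neg_one_smul F (c1 • w), act_smul, act_smul, neg_one_smul]
    rw [act_add] at e5
    have e6 := hfrob w hw
    have e7 : act y (act (y ^ q) w) = act (y ^ q) (act y w) := by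
      rw [← act_mul, ← act_mul, ← pow_succ, ← pow_succ']
    rw [e7]
    have e8 : act (y ^ q) (act y⁻¹ w) = -(c1 • act (y ^ q) w) - act (y ^ q) (act y w) := by
      rw [← e5]; abel
    rw [e8]
    have e9 : act (y ^ (2 * q)) w = -(c1 • act (y ^ q) w) - w := by
      rw [add_assoc] at e6
      rw [eq_neg_of_add_eq_zero_left e6]
      abel
    rw [e9]
    abel
  by_cases hu0 : u = 0
  · -- `y ^ (q + 1)` fixes `w`
    have e1 : act (y ^ (q + 1)) w = w := by
      rw [pow_succ', act_mul, sub_eq_zero.1 (hu.symm.trans hu0), act_act_inv]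
    have e2 : act (y ^ p) w = w := by rw [hyp, act_one]
    have e3 : act y w = w := by
      have hg : (1 : ℤ) = p * Nat.gcdA p (q + 1) + ((q + 1 : ℕ) : ℤ) * Nat.gcdB p (q + 1) := by
        rw [← Nat.gcd_eq_gcd_ab, hpq.gcd_eq_one, Nat.cast_one]
      have e4 : y = (y ^ p) ^ (Nat.gcdA p (q + 1)) * (y ^ (q + 1)) ^ (Nat.gcdB p (q + 1)) := by
        rw [← zpow_natCast y p, ← zpow_natCast y (q + 1), ← zpow_mul, ← zpow_mul, ← zpow_add, ← hg, zpow_one]
      rw [e4, act_mul, fix_zpow e1, fix_zpow e2]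
    exact hw0 (hfix w hw e3)
  · -- `y ^ (q - 1)` fixes `u`
    have e1 : ∀ w ∈ W, act (y ^ q ^ 2) w = act y w := by
      have e2 : ∀ w ∈ W, act (y ^ q) w = act y w := by
        intro w hw
        have := h.schur (rhoU n q F (y ^ q) - rhoU n q F y) (by
          intro x hx v
          show act (y ^ q) (act x v) - act y (act x v) = act x (act (y ^ q) v - act y v)
          rw [act_sub, comm_act hc hy hx, comm_act hc (E.pow_mem hy q) hx]) huW hu0 (sub_eq_zero.2 hfac) hw
        exact sub_eq_zero.1 this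
      have e3 : ∀ k : ℕ, ∀ w ∈ W, act ((y ^ q) ^ k) w = act (y ^ k) w := by
        intro k
        induction k with
        | zero => intro w _; rw [pow_zero, pow_zero]
        | succ k ih =>
          intro w hw
          rw [pow_succ, act_mul, e2 w hw, ih _ (h.stab y hy w hw), ← act_mul, ← pow_succ]
      intro w hw
      rw [sq, pow_mul, e3 q w hw, e2 w hw]
    obtain ⟨l, v, hv, hv0, hl⟩ := h.exists_eig hF hy e1
    exact hnoe hv hv0 hl

/-- the dimension is at least three -/
theorem Irr.three_le (hF : Fintype.card F = q ^ 2) (hpq : Nat.Coprime p (q + 1)) (h : Irr q E W)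
    (hc : ∀ x ∈ E, ∀ y ∈ E, x * y = y * x) {y : SU n F q} (hy : y ∈ E) (hyp : y ^ p = 1)
    (hfix : ∀ w ∈ W, act y w = w → w = 0) : 3 ≤ Module.finrank F W := by
  by_contra hlt
  obtain ⟨w, hw, hw0⟩ := Submodule.exists_mem_ne_zero_of_ne_bot h.ne
  have hd0 : Module.finrank F W ≠ 0 := fun h0 => h.ne (Submodule.finrank_eq_zero.1 h0)
  have hd : Module.finrank F W = 1 ∨ Module.finrank F W = 2 := by omega
  rcases hd with hd | hd
  · obtain ⟨l, hl⟩ := (finrank_eq_one_iff_of_nonzero' (⟨w, hw⟩ : W)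
      (fun h => hw0 (congrArg Subtype.val h))).1 hd ⟨act y w, h.stab y hy w hw⟩
    exact h.noeig hF hpq hc hy hyp hfix hw hw0 (congrArg Subtype.val hl).symm
  · set! T : Module.End F W := (rhoU n q F y).restrict (h.stab y hy) with hT
    have hpow : ∀ (k : ℕ) (w : W), ((T ^ k) w : Fin n → F) = act (y ^ k) w := by
      intro k
      induction k with
      | zero => intro w; rw [pow_zero, pow_zero, act_one, Module.End.one_apply]
      | succ k ih =>
        intro w
        rw [pow_succ, pow_succ, Module.End.mul_apply, act_mul, ih]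
        rfl
    have hTp : T ^ p = 1 := by
      refine LinearMap.ext fun w => Subtype.ext ?_
      rw [hpow, hyp, act_one]
      rfl
    have hdeg : T.charpoly.natDegree = 2 := by rw [LinearMap.charpoly_natDegree, hd]
    have hmon : T.charpoly.Monic := T.charpoly_monic
    have hform : T.charpoly = Polynomial.X ^ 2 + Polynomial.C (T.charpoly.coeff 1) * Polynomial.X +
        Polynomial.C (T.charpoly.coeff 0) := by
      have h1 := Polynomial.as_sum_range_C_mul_X_pow T.charpoly
      rw [hdeg, Finset.sum_range_succ, Finset.sum_range_succ, Finset.sum_range_one] at h1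
      have h2 : T.charpoly.coeff 2 = 1 := by
        have := hmon.coeff_natDegree
        rwa [hdeg] at this
      rw [h2] at h1
      conv_lhs => rw [h1]
      rw [pow_zero, mul_one, pow_one, map_one, one_mul]
      ring
    have h0 : T.charpoly.coeff 0 ^ p = 1 := by
      have h1 := LinearMap.det_eq_sign_charpoly_coeff T
      rw [hd] at h1
      have h2 : LinearMap.det T = T.charpoly.coeff 0 := by
        rw [h1]; ring
      rw [← h2, ← map_pow, hTp, map_one]
    have h1 := LinearMap.aeval_self_charpoly T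
    rw [hform] at h1
    simp only [map_add, map_pow, map_mul, Polynomial.aeval_X, Polynomial.aeval_C] at h1
    have h2 := congrArg Subtype.val (LinearMap.congr_fun h1 ⟨w, hw⟩)
    rw [sq] at h2
    exact h.quad hF hpq hc hy hyp hfix h0 hw hw0 h2

end Cfsg.Agent.H242.StrP.Uni
end

-- part: H242/StrP/UniCop
section
/-!
# `PSU_n(q)`, `p` prime to `q + 1` (helper242, for S2120)

`noSP_coprime` : no strongly `p`-embedded subgroups if the Sylow `p`-subgroups are not cyclic.
-/

set_option autoImplicit false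
set_option linter.unusedSectionVars false

namespace Cfsg.Agent.H242.StrP.Uni

open Cfsg Subgroup Cfsg.Agent.H818.StrP Cfsg.Agent.H818.StrP.Opp Cfsg.Agent.PreUniq.Cl Cfsg.Agent.H242.StrP
  Cfsg.Agent.LieClassical.HermBasic Cfsg.Agent.ClassicalGeometry.UnitTransv Cfsg.Agent.ClassicalGeometry.HermOrtho
  Cfsg.Agent.H876

open scoped Matrix MatrixGroups

/-- cyclic Sylow subgroups of quotients -/
theorem sylow_cyclic_of_surj {X G : Type*} [Group X] [Finite X] [Group G] {p : ℕ} [Fact p.Prime] {f : X →* G}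
    (hf : Function.Surjective f) (h : ∀ P : Sylow p X, IsCyclic P) (P : Sylow p G) : IsCyclic P := by
  obtain ⟨Q, rfl⟩ := Sylow.mapSurjective_surjective hf p P
  have := h Q
  rw [Sylow.coe_mapSurjective]
  exact isCyclic_of_surjective (f.subgroupMap (Q : Subgroup X)) (f.subgroupMap_surjective _)

/-- an elementary abelian group of order at least `p ^ 2` is not cyclic -/
theorem not_cyclic {X : Type*} [Group X] [Finite X] {p : ℕ} [hp : Fact p.Prime] {E : Subgroup X}
    (hE : IsElementaryAbelian p E) (hE2 : p ^ 2 ≤ Nat.card E) : ¬ IsCyclic E := by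
  intro h
  obtain ⟨g, hg⟩ := h.exists_generator
  have h1 : orderOf g = Nat.card E := orderOf_eq_card_of_forall_mem_zpowers hg
  have h2 : g ^ p = 1 := Subtype.ext (hE.2 g g.2)
  have h3 := Nat.le_of_dvd hp.out.pos (orderOf_dvd_of_pow_eq_one h2)
  rw [h1] at h3
  have h4 := hp.out.two_le
  have h5 : p ^ 2 = p * p := sq p
  nlinarith only [hE2, h3, h4]

variable {F : Type} [Field F] [Fintype F] {n q r p : ℕ}

/-- coprime action: `(y - 1) ^ 2 v = 0` implies `(y - 1) v = 0`. -/
theorem pfix [hp : Fact p.Prime] (hpF : (p : F) ≠ 0) {y : SU n F q} (hyp : y ^ p = 1) {v : Fin n → F}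
    (h : act y (act y v - v) = act y v - v) : act y v - v = 0 := by
  set w := act y v - v with hw
  have h1 : ∀ k : ℕ, act (y ^ k) v = v + (k : F) • w := by
    intro k
    induction k with
    | zero => rw [pow_zero, act_one, Nat.cast_zero, zero_smul, add_zero]
    | succ k ih =>
      rw [pow_succ', act_mul, ih, act_add, act_smul, h, Nat.cast_succ, add_smul, one_smul]
      have : act y v = v + w := by rw [hw]; abel
      rw [this]
      abel
  have h2 := h1 p
  rw [hyp, act_one] at h2
  have h3 : (p : F) • w = 0 := left_eq_add.1 h2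
  exact (smul_eq_zero.1 h3).resolve_left hpF

/-- the restriction of the representation to an invariant subspace -/
def resW {E : Subgroup (SU n F q)} {W : Submodule F (Fin n → F)} (h : ∀ x ∈ E, ∀ w ∈ W, act x w ∈ W) :
    ↥E →* Module.End F W where
  toFun x := (rhoU n q F x).restrict (h x x.2)
  map_one' := LinearMap.ext fun w => Subtype.ext ((act_one (w : Fin n → F) :))
  map_mul' x y := LinearMap.ext fun w => Subtype.ext (act_mul (x : SU n F q) y (w : Fin n → F))

private theorem uc_irr {X G K V : Type*} [Group X] [Group G] [Field K] [AddCommGroup V] [Module K V] {π : X →* G}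
    {ρ : X →* Module.End K V} {E : Subgroup G}
    (hs : ∀ U : Submodule K V, (∀ x, π x ∈ E → ∀ w ∈ U, ρ x w ∈ U) → U = ⊥ ∨ U = ⊤) (W : Submodule (Alg π ρ E) V) :
    W = ⊥ ∨ W = ⊤ := by
  let U : Submodule K V :=
    { carrier := W
      add_mem' := fun ha hb => W.add_mem ha hb
      zero_mem' := W.zero_mem
      smul_mem' := fun c w hw => W.smul_mem (algebraMap K (Alg π ρ E) c) hw }
  rcases hs U (fun x hx w hw => W.smul_mem (elt π ρ (E := E) (x := x) hx) hw) with h | h
  · exact Or.inl ((Submodule.eq_bot_iff W).2 fun w hw => (Submodule.eq_bot_iff U).1 h w hw)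
  · exact Or.inr (Submodule.eq_top_iff'.2 fun w => (Submodule.eq_top_iff'.1 h w : w ∈ U))

theorem Irr.exists_ker [hp : Fact p.Prime] {E : Subgroup (SU n F q)} {W : Submodule F (Fin n → F)} (h : Irr q E W)
    (hE : IsElementaryAbelian p E) (hE2 : p ^ 2 ≤ Nat.card E) : ∃ z ∈ E, z ≠ 1 ∧ ∀ w ∈ W, act z w = w := by
  by_contra hcon
  push Not at hcon
  have hcon' : ∀ z ∈ E, (∀ w ∈ W, act z w = w) → z = 1 := by
    intro z hz h1
    by_contra h2
    obtain ⟨w, hw, hne⟩ := hcon z hz h2
    exact hne (h1 w hw)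
  have hnt : Nontrivial W := Submodule.nontrivial_iff_ne_bot.2 h.ne
  have hinj : Function.Injective (resW h.stab) := by
    rw [injective_iff_map_eq_one]
    intro x hx
    exact Subtype.ext (hcon' x x.2 fun w hw => congrArg Subtype.val (LinearMap.congr_fun hx ⟨w, hw⟩))
  have hcomm := hE.1
  have hcyc := isCyclic_of_irreducible (V := W) (π := MonoidHom.id ↥E) (ρ := resW h.stab) (E := ⊤)
    Function.surjective_id hinj (fun x y _ _ => hcomm.is_comm.comm x y) (uc_irr <| by
      intro W₁ hW₁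
      let W₂ : Submodule F (Fin n → F) := W₁.map W.subtype
      have hstab : ∀ x ∈ E, ∀ w ∈ W₂, act x w ∈ W₂ := by
        rintro x hx _ ⟨w, hw, rfl⟩
        exact ⟨resW h.stab ⟨x, hx⟩ w, hW₁ ⟨x, hx⟩ (Subgroup.mem_top _) w hw, rfl⟩
      have hle : W₂ ≤ W := by
        rintro _ ⟨w, -, rfl⟩
        exact w.2
      by_cases h0 : W₂ = ⊥
      · left
        rw [eq_bot_iff]
        intro w hw
        have h1 : (w : Fin n → F) ∈ W₂ := ⟨w, hw, rfl⟩
        rw [h0] at h1
        exact Subtype.ext h1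
      · right
        rw [eq_top_iff]
        intro w _
        have h1 : (w : Fin n → F) ∈ W₂ := by rw [h.min W₂ hle h0 hstab]; exact w.2
        obtain ⟨w', hw', he⟩ := h1
        have : w' = w := Subtype.ext he
        rw [← this]
        exact hw')
  have : IsCyclic ↥E := isCyclic_of_surjective (Subgroup.topEquiv (G := ↥E)).toMonoidHom
    (Subgroup.topEquiv (G := ↥E)).surjective
  exact not_cyclic hE hE2 this

variable {G : Type*} [Group G] [Finite G] [IsSimpleGroup G] [hp : Fact p.Prime] [hr : Fact r.Prime] [CharP F r]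

/-- **`p` prime to `q + 1`.** -/
theorem noSP_coprime (hF : Fintype.card F = q ^ 2) (hn : 3 ≤ n) (h32 : ¬ (n = 3 ∧ q = 2))
    (hna : ¬ IsMulCommutative G) (hpr : p ≠ r) (hp2 : p ≠ 2) (hpq : Nat.Coprime p (q + 1)) (e : G ≃* PSU n F q)
    (hcyc : ¬ ∀ P : Sylow p G, IsCyclic P) : NoSP p G := by
  classical
  have hpF : (p : F) ≠ 0 := by
    intro h0
    exact hpr ((Nat.prime_dvd_prime_iff_eq hr.out hp.out).1 ((CharP.cast_eq_zero_iff F r p).1 h0)).symm
  obtain ⟨E, hE, hE2⟩ := exists_elemAb (G := SU n F q) hp2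
    (fun h => hcyc (sylow_cyclic_of_surj (projC_surjective e) h))
  have hcm := hE.1
  have hc : ∀ x ∈ E, ∀ y ∈ E, x * y = y * x := fun x hx y hy =>
    congrArg Subtype.val (hcm.is_comm.comm (⟨x, hx⟩ : E) ⟨y, hy⟩)
  by_cases hti : ∃ W : Submodule F (Fin n → F), W ≠ ⊥ ∧ (∀ x ∈ E, ∀ w ∈ W, act x w ∈ W) ∧
      ∀ x ∈ W, ∀ y ∈ W, hermForm n F q x y = 0
  · -- a totally isotropic invariant subspace
    obtain ⟨W, hW0, hWE, hW⟩ := hti
    have hE' : IsElementaryAbelian p (E.map (projC e)) := by
      refine ⟨Subgroup.map_isMulCommutative E _, ?_⟩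
      rintro _ ⟨x, hx, rfl⟩
      rw [← map_pow, hE.2 x hx, map_one]
    have hcard : Nat.card E ≤ Nat.card (E.map (projC e)) := by
      refine Nat.card_le_card_of_injective (fun x : E => (⟨projC e x, ⟨x, x.2, rfl⟩⟩ : E.map (projC e))) ?_
      intro x y hxy
      have h1 : projC e x = projC e y := congrArg Subtype.val hxy
      by_contra hne
      refine projC_ne_one (p := p) hF hn hpq e (A := (x : SU n F q) * (y : SU n F q)⁻¹) ?_ ?_ ?_
      · exact hE.2 _ (E.mul_mem x.2 (E.inv_mem y.2))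
      · intro h2
        exact hne (Subtype.ext (mul_inv_eq_one.1 h2))
      · rw [map_mul, map_inv, h1, mul_inv_cancel]
    refine noSP_of_iso hF hn h32 hna hpr e hE' (hE2.trans hcard) hW0 hW ?_
    rintro y ⟨x, hx, hxy⟩ w hw
    have h1 : projC e (y * x⁻¹) = 1 := by rw [map_mul, map_inv, hxy, mul_inv_cancel]
    obtain ⟨c, hcv⟩ := ker_scalar hF hn e _ h1
    have h2 : act y w = c • act x w := by
      have h3 : act (y * x⁻¹) (act x w) = c • act x w := hcv _
      rwa [act_mul, act_inv_act] at h3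
    rw [h2]
    exact W.smul_mem _ (hWE x hx w hw)
  · -- no totally isotropic invariant subspace
    have haniso : ∀ W : Submodule F (Fin n → F), (∀ x ∈ E, ∀ w ∈ W, act x w ∈ W) →
        (∀ x ∈ W, ∀ y ∈ W, hermForm n F q x y = 0) → W = ⊥ := by
      intro W h1 h2
      by_contra h3
      exact hti ⟨W, h3, h1, h2⟩
    set! P : Submodule F (Fin n → F) → Prop := fun W => W ≠ ⊥ ∧ (∀ x ∈ E, ∀ w ∈ W, act x w ∈ W) ∧
      ∃ y ∈ E, ∀ w ∈ W, act y w = w → w = 0 with hP
    -- the commutator spaces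
    have hrange : ∀ z ∈ E, z ≠ 1 → P (LinearMap.range (rhoU n q F z - 1)) := by
      intro z hz hz1
      refine ⟨?_, ?_, z, hz, ?_⟩
      · intro h0
        apply hz1
        apply ext_act
        intro v
        have h1 : (rhoU n q F z - 1) v ∈ LinearMap.range (rhoU n q F z - 1) := ⟨v, rfl⟩
        rw [h0] at h1
        rw [act_one]
        exact sub_eq_zero.1 h1
      · rintro x hx _ ⟨v, rfl⟩
        refine ⟨act x v, ?_⟩
        show act z (act x v) - act x v = act x (act z v - v)
        rw [act_sub, comm_act hc hz hx]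
      · rintro _ ⟨v, rfl⟩ h1
        exact pfix hpF (hE.2 z hz) h1
    have hE1 : ∃ z ∈ E, z ≠ 1 := by
      by_contra hcon
      push Not at hcon
      have : E = ⊥ := by
        rw [eq_bot_iff]
        intro x hx
        exact hcon x hx
      rw [this, Subgroup.card_bot] at hE2
      have := hp.out.two_le
      nlinarith only [hE2, this]
    obtain ⟨z0, hz0, hz01⟩ := hE1
    have hex : ∃ k, ∃ W, P W ∧ Module.finrank F W = k := ⟨_, _, hrange z0 hz0 hz01, rfl⟩
    obtain ⟨W, hPW, hWk⟩ := Nat.find_spec hex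
    have hmin : ∀ W', P W' → Module.finrank F W ≤ Module.finrank F W' := by
      intro W' hW'
      rw [hWk]
      exact Nat.find_min' hex ⟨W', hW', rfl⟩
    obtain ⟨hW0, hWE, y, hy, hfix⟩ := hPW
    have hWnd : Nd q W := by
      have h1 : W ⊓ hermPerp q (W : Set (Fin n → F)) = ⊥ := by
        refine haniso _ ?_ ?_
        · rintro x hx w ⟨hw, hw'⟩
          refine ⟨hWE x hx w hw, ?_⟩
          intro v hv
          have h2 : act x⁻¹ v ∈ W := hWE _ (E.inv_mem hx) v hv
          have h3 := hw' _ h2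
          rwa [← herm_act x, act_act_inv] at h3
        · rintro x hx y hy
          exact hx.2 y hy.1
      intro u hu hv
      have h2 : u ∈ W ⊓ hermPerp q (W : Set (Fin n → F)) := ⟨hu, hv⟩
      rw [h1] at h2
      exact h2
    have hirr : Irr q E W := by
      refine ⟨hW0, hWnd, hWE, fun W' hle h0 hst => ?_⟩
      refine Submodule.eq_of_le_of_finrank_le hle (hmin W' ⟨h0, hst, y, hy, fun w hw => hfix w (hle hw)⟩)
    obtain ⟨z, hz, hz1, hzW⟩ := hirr.exists_ker hE hE2
    have hyp := hE.2 y hy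
    have hd3 := hirr.three_le hF hpq hc hy hyp hfix
    -- the dimension of `W^⊥`
    have hdim : Module.finrank F W + Module.finrank F (hermPerp q (W : Set (Fin n → F))) = n :=
      finrank_hermPerp_of_nondeg hF W hWnd
    have hle : Module.finrank F W ≤ Module.finrank F (hermPerp q (W : Set (Fin n → F))) := by
      refine (hmin _ (hrange z hz hz1)).trans (Submodule.finrank_mono ?_)
      rintro _ ⟨v, rfl⟩
      intro w hw
      show hermForm n F q (act z v - v) w = 0
      rw [herm_sub_left]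
      have h1 : hermForm n F q (act z v) w = hermForm n F q v w := by
        conv_lhs => rw [← hzW w hw, herm_act]
      rw [h1, sub_self]
    set! d := Module.finrank F W with hd; rewrite [← hd] at hle hdim hd3 hmin hWk
    have hP' : PerpPair q W (hermPerp q (W : Set (Fin n → F))) := perpPair_of_nd hF hWnd
    obtain ⟨b, hbW, hb⟩ := exists_orthonormal hF W hWnd rfl
    obtain ⟨b2, hb2W, hb2⟩ := exists_orthonormal hF _ hP'.nd' rfl
    set! b' : Fin d → (Fin n → F) := fun i => b2 (Fin.castLE hle i) with hb'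
    have hbb' : ∀ i j, hermForm n F q (b' i) (b' j) = if i = j then 1 else 0 := by
      intro i j
      rw [hb', hb2]
      congr 1
      rw [Fin.castLE_inj]
    have hbb : ∀ i j, hermForm n F q (b i) (b' j) = 0 := fun i j => hP'.perp _ (hbW i) _ (hb2W _)
    -- `ι` and `κ`
    have hιW : ∀ c, emb b c ∈ W := by
      intro c
      rw [emb_apply]
      exact W.sum_mem fun i _ => W.smul_mem _ (hbW i)
    have hικ : ∀ w ∈ W, emb b (prj q b w) = w := by
      intro w hw
      rw [emb_apply]
      exact (eq_sum_of_orthonormal W (by rw [Fintype.card_fin]) hbW hb hw).symm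
    have hκι : ∀ c, prj q b (emb b c) = c := prj_emb hb
    set! Y : Module.End F (Fin d → F) := prj q b ∘ₗ (rhoU n q F y ∘ₗ emb b) with hY
    set! Y' : Module.End F (Fin d → F) := prj q b ∘ₗ (rhoU n q F y⁻¹ ∘ₗ emb b) with hY'
    have hYa : ∀ c, emb b (Y c) = act y (emb b c) := fun c => hικ _ (hWE y hy _ (hιW c))
    have hYa' : ∀ c, emb b (Y' c) = act y⁻¹ (emb b c) := fun c => hικ _ (hWE _ (E.inv_mem hy) _ (hιW c))
    have hinj : Function.Injective (emb b) := fun c c' h => by rw [← hκι c, h, hκι]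
    have hherm : ∀ c c', hermForm d F q c c' = hermForm n F q (emb b c) (emb b c') := by
      intro c c'
      rw [herm_emb hF, hκι]
    refine noSP_of_frame hF hp2 hpq e hd3 (by omega) hb hbb' hbb (Y := Y) (Y' := Y') ?_ ?_ ?_ ?_ ?_ ?_
    · intro c c'
      rw [hherm, hherm, hYa, hYa', ← herm_act y (emb b c), act_act_inv]
    · intro c
      apply hinj
      rw [hYa', hYa, act_inv_act]
    · intro c
      apply hinj
      rw [hYa, hYa', act_act_inv]
    · have hpow : ∀ k : ℕ, ∀ c, emb b ((Y ^ k) c) = act (y ^ k) (emb b c) := by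
        intro k
        induction k with
        | zero => intro c; rw [pow_zero, pow_zero, act_one, Module.End.one_apply]
        | succ k ih => intro c; rw [pow_succ, pow_succ, Module.End.mul_apply, act_mul, ih, hYa]
      refine LinearMap.ext fun c => hinj ?_
      rw [hpow, hyp, act_one, Module.End.one_apply]
    · intro c h1
      apply hinj
      rw [map_zero]
      apply hfix _ (hιW c)
      rw [← hYa, h1]
    · intro c h1
      by_contra hc0
      have h2 : emb b c ≠ 0 := fun h0 => hc0 (hinj (by rw [h0, map_zero]))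
      refine hirr.quad hF hpq hc hy hyp hfix (c1 := 3) (c0 := 1) (one_pow p) (hιW c) h2 ?_
      have h3 := congrArg (fun c => act y (emb b c)) h1
      simp only [map_add, map_smul, hYa, hYa', map_zero, act_zero, act_add, act_smul, act_act_inv] at h3
      rw [one_smul, ← h3]
      abel

end Cfsg.Agent.H242.StrP.Uni
end

private theorem dce_c52079df0f17 : _root_.True := by
  try have : _root_.True := by simp only [_root_.Cfsg.Agent.H242.StrP.Uni.emb.eq_1]
  exact _root_.True.intro
end

-- part: H242/StrP/UniThree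
section
prune_inst 0x21104040722202000018000290201c52860004b2104b0000410302400e880c602081a621ae2000134a8808c500310100000000108000000000200400011d0080108100023100000000009e000080000000000000000000000000000000000004000000000
set_option linter.all false
open scoped Cfsg.Agent.FastGrp

/-!
# `PSU_3(q)`, `p` divides `q + 1`: the easy cases (helper242, for S2120)

`noSP_three_of_root` : there is `m` with `m ^ (q + 1) = 1`, `m ^ (3 p) = 1`, `m ^ 3 ≠ 1`.
-/

set_option autoImplicit false
set_option linter.unusedSectionVars false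

namespace Cfsg.Agent.H242.StrP.Uni

open Cfsg Subgroup Cfsg.Agent.H818.StrP Cfsg.Agent.H818.StrP.Opp Cfsg.Agent.PreUniq.Cl Cfsg.Agent.H242.StrP
  Cfsg.Agent.LieClassical.HermBasic Cfsg.Agent.ClassicalGeometry.UnitTransv Cfsg.Agent.ClassicalGeometry.HermOrtho
  Cfsg.Agent.H876

open scoped Matrix MatrixGroups

variable {F : Type} [Field F] [Fintype F] {q r p : ℕ} {G : Type*} [Group G] [Finite G] [hp : Fact p.Prime]

/-- elements commuting with an element of order `p` modulo the centre -/
theorem mem_of_comm' {n : ℕ} {e : G ≃* PSU n F q} {M : Subgroup G} (h : IsStronglyPEmbedded p M) {x : SU n F q}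
    (hx : projC e x ∈ M) (hxp : x ^ p ∈ center (SU n F q)) (hx1 : x ∉ center (SU n F q)) {g : SU n F q}
    (hg : ∀ v, act g (act x v) = act x (act g v)) : projC e g ∈ M := by
  refine mem_of_commute h hx (by rw [← map_pow, projC_eq_one_iff]; exact hxp)
    (fun h1 => hx1 ((projC_eq_one_iff e).1 h1)) ?_
  rw [← map_mul, ← map_mul]
  congr 1
  apply ext_act
  intro v
  rw [act_mul, act_mul, hg]

theorem herm_smul_self {n : ℕ} (c : F) (v : Fin n → F) :
    hermForm n F q (c • v) (c • v) = c * c ^ q * hermForm n F q v v := by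
  rw [herm_smul_left, herm_smul_right, mul_assoc]

/-- the stabilizer of the centre of a homology of order `p` -/
theorem stab_le {n : ℕ} {e : G ≃* PSU n F q} {M : Subgroup G}
    (hM : IsStronglyPEmbedded p M) {A : SU n F q} (hA : projC e A ∈ M) (hAp : A ^ p ∈ center (SU n F q))
    (hA1 : A ∉ center (SU n F q)) {x : Fin n → F} (hx : hermForm n F q x x ≠ 0) {m l : F} (hAx : act A x = l • x)
    (hAm : ∀ v, hermForm n F q v x = 0 → act A v = m • v) :
    Geo.subspaceStabilizer (Submodule.span F {x}) ⊓ (GU n F q ⊓ Geo.specialLinear (Fin n) F) ≤ hat e M := by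
  rintro g ⟨hg, hg'⟩
  obtain ⟨B, rfl⟩ := exists_suGL_eq hg'
  refine mem_hat.2 (mem_of_comm' hM hA hAp hA1 fun v => ?_)
  have h1 := (mem_stab_iff.1 hg x).1 (Submodule.mem_span_singleton_self x)
  rw [suGL_mulVec] at h1
  obtain ⟨c, hc⟩ := Submodule.mem_span_singleton.1 h1
  have hc0 : c ≠ 0 := by
    rintro rfl
    rw [zero_smul] at hc
    have h2 := herm_act B x x
    rw [← hc, herm_zero_left] at h2
    exact hx h2.symm
  -- decompose `v`
  set w := v - (hermForm n F q v x / hermForm n F q x x) • x with hw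
  have hwx : hermForm n F q w x = 0 := by
    rw [hw, herm_sub_left, herm_smul_left, div_mul_cancel₀ _ hx, sub_self]
  have hBw : hermForm n F q (act B w) x = 0 := by
    have h2 := herm_act B w x
    rw [hwx, ← hc, herm_smul_right] at h2
    exact (mul_eq_zero.1 h2).resolve_left (pow_ne_zero _ hc0)
  have hv : v = (hermForm n F q v x / hermForm n F q x x) • x + w := by rw [hw]; abel
  rw [hv, act_add, act_add, act_add, act_add, act_smul, act_smul, act_smul, act_smul, hAm _ hwx, act_smul, hAx,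
    act_smul, ← hc, act_smul, hAx, hAm _ hBw, smul_comm l c]

theorem span_finrank {n : ℕ} {x : Fin n → F} (hx : hermForm n F q x x ≠ 0) :
    Module.finrank F (Submodule.span F {x}) = 1 :=
  finrank_span_singleton (by rintro rfl; exact hx (herm_zero_left _))

/-- two stabilizers of non-degenerate points generate -/
theorem top_of_two_stab (hF : Fintype.card F = q ^ 2) (hq : q ≠ 2) {H : Subgroup (GL (Fin 3) F)} {x y : Fin 3 → F}
    (hx : hermForm 3 F q x x ≠ 0) (hy : hermForm 3 F q y y ≠ 0)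
    (hxy : y ∉ Submodule.span F {x})
    (h1 : Geo.subspaceStabilizer (Submodule.span F {x}) ⊓ (GU 3 F q ⊓ Geo.specialLinear (Fin 3) F) ≤ H)
    (h2 : Geo.subspaceStabilizer (Submodule.span F {y}) ⊓ (GU 3 F q ⊓ Geo.specialLinear (Fin 3) F) ≤ H) :
    GU 3 F q ⊓ Geo.specialLinear (Fin 3) F ≤ H := by
  have hx0 : x ≠ 0 := by rintro rfl; exact hx (herm_zero_left _)
  have hmax := nondeg_maximal 3 q hF le_rfl (fun h => hq h.2) (Submodule.span F {x})
    (by rw [Ne, Submodule.span_singleton_eq_bot]; exact hx0)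
    (by
      intro u hu hu0
      obtain ⟨c, rfl⟩ := Submodule.mem_span_singleton.1 hu
      have hc0 : c ≠ 0 := by rintro rfl; exact hu0 (zero_smul _ _)
      refine ⟨⟨x, Submodule.mem_span_singleton_self x, ?_⟩, ⟨x, Submodule.mem_span_singleton_self x, ?_⟩⟩
      · rw [herm_smul_right]; exact mul_ne_zero (pow_ne_zero _ hc0) hx
      · rw [herm_smul_left]; exact mul_ne_zero hc0 hx)
    (by rw [span_finrank hx]; omega)
  rcases hmax.2 (H ⊓ (GU 3 F q ⊓ Geo.specialLinear (Fin 3) F)) (le_inf h1 inf_le_right) inf_le_right with h | h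
  swap
  · rw [← h]; exact inf_le_left
  exfalso
  -- a root element of `y^⊥` moving `x`
  set U : Submodule F (Fin 3 → F) := hermPerp q (Submodule.span F {y} : Set (Fin 3 → F)) with hU
  have hnd : ∀ u ∈ Submodule.span F {y}, (∀ v ∈ Submodule.span F {y}, hermForm 3 F q u v = 0) → u = 0 := by
    intro u hu h0
    obtain ⟨c, rfl⟩ := Submodule.mem_span_singleton.1 hu
    have h3 := h0 y (Submodule.mem_span_singleton_self y)
    rw [herm_smul_left] at h3
    rw [(mul_eq_zero.1 h3).resolve_right hy, zero_smul]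
  have hUd : Module.finrank F U = 2 := by
    have h3 : Module.finrank F (Submodule.span F {y}) + Module.finrank F U = 3 :=
      finrank_hermPerp_of_nondeg hF _ hnd
    rw [span_finrank hy] at h3
    omega
  have hUnd : Nd q U := hermPerp_nondeg hF _ hnd
  -- not all isotropic vectors of `U` are orthogonal to `x`
  have hex : ∃ v ∈ U, hermForm 3 F q v v = 0 ∧ hermForm 3 F q x v ≠ 0 := by
    by_contra hcon
    push Not at hcon
    -- then `x ⊥ U`
    have hall : ∀ v ∈ U, hermForm 3 F q x v = 0 := by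
      intro v hv
      by_cases hvv : hermForm 3 F q v v = 0
      · exact hcon v hv hvv
      · obtain ⟨c, hc⟩ := exists_trace_eq hF (c := (1 : F)) (one_pow q)
        obtain ⟨a, ha, haa, hav⟩ := exists_iso_split hF hUnd (by omega) hv hvv c
        have h3 := herm_sub_self_iso hF haa hav hc
        have h4 := hcon _ (U.sub_mem hv ha) h3
        rw [herm_sub_right hF, hcon a ha haa, sub_zero] at h4
        exact h4
    have hP := perpPair_of_nd hF hnd
    have h3 : x ∈ Submodule.span F {y} := hP.mem x hall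
    obtain ⟨c, rfl⟩ := Submodule.mem_span_singleton.1 h3
    have hc0 : c ≠ 0 := by rintro rfl; exact hx0 (zero_smul _ _)
    apply hxy
    rw [Submodule.mem_span_singleton]
    exact ⟨c⁻¹, by rw [smul_smul, inv_mul_cancel₀ hc0, one_smul]⟩
  obtain ⟨v, hv, hvv, hxv⟩ := hex
  obtain ⟨c, hc0, hc⟩ := exists_trace_zero_ne hF
  have hyv : hermForm 3 F q y v = 0 := herm_eq_zero_swap hF (hv y (Submodule.mem_span_singleton_self y))
  have hu1 : uGL hF v c hvv hc ∈ H ⊓ (GU 3 F q ⊓ Geo.specialLinear (Fin 3) F) := by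
    refine ⟨h2 ⟨mem_stab_of_le ?_, uGL_mem hF hvv hc⟩, uGL_mem hF hvv hc⟩
    intro u hu
    obtain ⟨a, rfl⟩ := Submodule.mem_span_singleton.1 hu
    rw [uGL_mulVec, herm_smul_left, hyv, mul_zero, mul_zero, zero_smul, add_zero]
    exact hu
  rw [h] at hu1
  have h3 := (mem_stab_iff.1 hu1.1 x).1 (Submodule.mem_span_singleton_self x)
  rw [uGL_mulVec] at h3
  have h4 : v ∈ Submodule.span F {x} :=
    (Submodule.smul_mem_iff _ (mul_ne_zero hc0 hxv)).1
      ((Submodule.add_mem_iff_right _ (Submodule.mem_span_singleton_self x)).1 h3)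
  obtain ⟨a, rfl⟩ := Submodule.mem_span_singleton.1 h4
  have ha : a ≠ 0 := by
    rintro rfl
    rw [zero_smul, herm_zero_right hF] at hxv
    exact hxv rfl
  rw [herm_smul_self] at hvv
  exact mul_ne_zero (mul_ne_zero ha (pow_ne_zero _ ha)) hx hvv

/-- **`PSU_3(q)`, the easy cases.** -/
theorem noSP_three_of_root (hF : Fintype.card F = q ^ 2) (hq : q ≠ 2) (e : G ≃* PSU 3 F q) {m : Fˣ}
    (hmq : m ^ (q + 1) = 1) (hm3 : m ^ 3 ≠ 1) (hmp : m ^ (3 * p) = 1) : NoSP p G := by
  set d1 : Fin 3 → Fˣ := ![m, m, (m ^ 2)⁻¹] with hd1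
  set d2 : Fin 3 → Fˣ := ![m, (m ^ 2)⁻¹, m] with hd2
  have hprod1 : ∏ i, d1 i = 1 := by
    rw [Fin.prod_univ_three]
    simp only [hd1, Matrix.cons_val_zero, Matrix.cons_val_one, Matrix.cons_val_two, Matrix.head_cons, Matrix.tail_cons]
    group
  have hprod2 : ∏ i, d2 i = 1 := by
    rw [Fin.prod_univ_three]
    simp only [hd2, Matrix.cons_val_zero, Matrix.cons_val_one, Matrix.cons_val_two, Matrix.head_cons, Matrix.tail_cons]
    group
  have hm2q : ((m ^ 2)⁻¹) ^ (q + 1) = 1 := by
    rw [inv_pow, ← pow_mul, mul_comm, pow_mul, hmq, one_pow, inv_one]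
  obtain ⟨A, hA⟩ := exists_dgSU hF hprod1 (by
    intro i
    fin_cases i
    · exact hmq
    · exact hmq
    · exact hm2q)
  obtain ⟨B, hB⟩ := exists_dgSU hF hprod2 (by
    intro i
    fin_cases i
    · exact hmq
    · exact hm2q
    · exact hmq)
  have hm3' : m ≠ (m ^ 2)⁻¹ := by
    intro h
    apply hm3
    rw [pow_succ']
    nth_rewrite 1 [h]
    rw [inv_mul_cancel]
  have hcen : ∀ {C : SU 3 F q} {c : F}, (∀ v, act C v = c • v) → C ∈ center (SU 3 F q) := by
    intro C c hC
    rw [Subgroup.mem_center_iff]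
    intro D
    apply ext_act
    intro v
    rw [act_mul, act_mul, hC, hC, act_smul]
  -- `p`-th powers
  have hmp' : ((m ^ 2)⁻¹) ^ p = m ^ p := by
    rw [inv_pow, inv_eq_iff_mul_eq_one, ← pow_mul, ← pow_add]
    rw [show 2 * p + p = 3 * p by ring, hmp]
  have hAp : A ^ p ∈ center (SU 3 F q) := by
    refine hcen (c := ((m ^ p : Fˣ) : F)) fun v => ?_
    rw [act_pow_dg hA]
    funext i
    fin_cases i
    · rfl
    · rfl
    · show (((m ^ 2)⁻¹ ^ p : Fˣ) : F) * v 2 = _
      rw [hmp']
      rfl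
  have hBp : B ^ p ∈ center (SU 3 F q) := by
    refine hcen (c := ((m ^ p : Fˣ) : F)) fun v => ?_
    rw [act_pow_dg hB]
    funext i
    fin_cases i
    · rfl
    · show (((m ^ 2)⁻¹ ^ p : Fˣ) : F) * v 1 = _
      rw [hmp']
      rfl
    · rfl
  have hA1 : A ∉ center (SU 3 F q) := fun h => hm3' (eq_of_center hF le_rfl hA h 0 2)
  have hB1 : B ∉ center (SU 3 F q) := fun h => hm3' (eq_of_center hF le_rfl hB h 0 1)
  have hAB := comm_dg hA hB
  intro M0 hM0
  have hE := pair_elem (p := p) (x := projC e A) (y := projC e B) (by rw [← map_pow, projC_eq_one_iff]; exact hAp)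
    (by rw [← map_pow, projC_eq_one_iff]; exact hBp) (by rw [← map_mul, ← map_mul, hAB])
  obtain ⟨M, hM, hEM⟩ := exists_ge hM0 (E := closure {projC e A, projC e B})
    (fun a => ⟨1, Subtype.ext (by rw [pow_one]; exact hE.2 a.1 a.2)⟩)
  have mA : projC e A ∈ M := hEM (subset_closure (Or.inl rfl))
  have mB : projC e B ∈ M := hEM (subset_closure (Or.inr rfl))
  have h2 := stab_le hM mA hAp hA1 (x := Pi.single 2 1) (m := m) (l := ((m ^ 2)⁻¹ : Fˣ))
    (by rw [herm_single_right hF, Pi.single_eq_same, one_pow, mul_one]; exact one_ne_zero)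
    (by
      rw [hA]
      funext i
      fin_cases i
      · simp [hd1]
      · simp [hd1]
      · simp [hd1])
    (by
      intro v hv
      rw [herm_single_right hF, one_pow, mul_one] at hv
      rw [hA]
      funext i
      fin_cases i
      · simp [hd1]
      · simp [hd1]
      · simp [hv])
  have h1 := stab_le hM mB hBp hB1 (x := Pi.single 1 1) (m := m) (l := ((m ^ 2)⁻¹ : Fˣ))
    (by rw [herm_single_right hF, Pi.single_eq_same, one_pow, mul_one]; exact one_ne_zero)
    (by
      rw [hB]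
      funext i
      fin_cases i
      · simp [hd2]
      · simp [hd2]
      · simp [hd2])
    (by
      intro v hv
      rw [herm_single_right hF, one_pow, mul_one] at hv
      rw [hB]
      funext i
      fin_cases i
      · simp [hd2]
      · simp [hv]
      · simp [hd2])
  refine hM.2.1 (top_of_hat (top_of_two_stab hF hq (x := Pi.single 2 1) (y := Pi.single 1 1) ?_ ?_ ?_ h2 h1))
  · rw [herm_single_right hF, Pi.single_eq_same, one_pow, mul_one]; exact one_ne_zero
  · rw [herm_single_right hF, Pi.single_eq_same, one_pow, mul_one]; exact one_ne_zero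
  · intro h
    obtain ⟨c, hc⟩ := Submodule.mem_span_singleton.1 h
    have := congrFun hc 1
    simp at this

end Cfsg.Agent.H242.StrP.Uni
end

-- part: H242/StrP/UniAll
section
prune_inst 0x1100000400000000000000080201c06820004b01008000000a2020006880c200080a020b01000020a8800054031010000000000820000000a000000011c00801000000230000000000000000000000000000000000000000000000000000004000000000
set_option linter.all false
open scoped Cfsg.Agent.FastGrp

-- part: H242/StrP/UniTan
section
/-!
# Homologies of `PSU_3(q)` and Siegel elements (helper242, for S2120)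

`x` non-isotropic, `z ≠ 0` isotropic and orthogonal to `x`.

* `hom x m` : the homology with centre `x`, multiplication by `m` on `x^⊥`;
* `Ty H x z g` : `H` contains a Siegel element at `z` with parameter `g`;
* `su_le_of_ty` : if `Ty H x z g` for all `g` and `H` moves `z` then `H` is everything.
-/

set_option autoImplicit false
set_option linter.unusedSectionVars false

namespace Cfsg.Agent.H242.StrP.Uni

open Cfsg Subgroup Cfsg.Agent.H818.StrP Cfsg.Agent.H818.StrP.Opp Cfsg.Agent.PreUniq.Cl Cfsg.Agent.H242.StrP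
  Cfsg.Agent.LieClassical.HermBasic Cfsg.Agent.ClassicalGeometry.UnitTransv Cfsg.Agent.ClassicalGeometry.HermOrtho
  Cfsg.Agent.H876

open scoped Matrix MatrixGroups

variable {F : Type} [Field F] [Fintype F] {q : ℕ}

theorem cube_pow {m : F} (hm : m ^ (q + 1) = 1) : ((m ^ 3)⁻¹) ^ (q + 1) = 1 := by
  rw [inv_pow, ← pow_mul, mul_comm, pow_mul, hm, one_pow, inv_one]

/-- the homology with centre `x` -/
noncomputable def hom (hF : Fintype.card F = q ^ 2) (x : Fin 3 → F) (m : F) (hx : hermForm 3 F q x x ≠ 0)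
    (hm : m ^ (q + 1) = 1) : SU 3 F q :=
  _root_.Cfsg.Agent.ClassicalGeometry.UnitTransv.mk (m • rankOne q ((((m ^ 3)⁻¹ - 1) / hermForm 3 F q x x) • x) x) (by
    have hm0 : m ≠ 0 := by
      rintro rfl
      rw [zero_pow (by omega)] at hm
      exact zero_ne_one hm
    rw [Matrix.det_smul, det_rankOne, herm_smul_left, div_mul_cancel₀ _ hx, Fintype.card_fin, add_sub_cancel,
      mul_inv_cancel₀ (pow_ne_zero _ hm0)]) (fun u v => by
    rw [Matrix.smul_mulVec, Matrix.smul_mulVec, herm_smul_left, herm_smul_right,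
      rankOne_refl_herm hF hx (cube_pow hm), ← mul_assoc, ← pow_succ', hm, one_mul])

theorem act_hom (hF : Fintype.card F = q ^ 2) {x : Fin 3 → F} {m : F} (hx : hermForm 3 F q x x ≠ 0)
    (hm : m ^ (q + 1) = 1) (v : Fin 3 → F) : act (hom hF x m hx hm) v =
      m • v + (m * ((m ^ 3)⁻¹ - 1) * hermForm 3 F q v x / hermForm 3 F q x x) • x := by
  rw [hom, act_mk, Matrix.smul_mulVec, rankOne_mulVec, smul_add, smul_smul, smul_smul]
  congr 2
  ring

variable {H : Subgroup (SU 3 F q)} {x z : Fin 3 → F}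

/-- `H` contains a Siegel element at `z` with parameter `g` -/
def Ty (H : Subgroup (SU 3 F q)) (x z : Fin 3 → F) (g : F) : Prop :=
  ∃ A ∈ H, ∃ m : F, ∀ v, act A v = v + (hermForm 3 F q v z * g) • x +
    (m * hermForm 3 F q v z - g ^ q * hermForm 3 F q v x) • z

theorem ty_zero (hF : Fintype.card F = q ^ 2) : Ty H x z 0 :=
  ⟨1, H.one_mem, 0, fun v => by
    rw [act_one, mul_zero, zero_smul, zero_mul, zero_pow_q hF, zero_mul, sub_zero, zero_smul, add_zero, add_zero]⟩

theorem ty_add (hF : Fintype.card F = q ^ 2) (hzz : hermForm 3 F q z z = 0) (hxz : hermForm 3 F q x z = 0) {g g' : F}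
    (h : Ty H x z g) (h' : Ty H x z g') : Ty H x z (g + g') := by
  have hzx := herm_eq_zero_swap hF hxz
  obtain ⟨A, hA, m, hAv⟩ := h
  obtain ⟨B, hB, m', hBv⟩ := h'
  refine ⟨A * B, H.mul_mem hA hB, m + m' - g ^ q * g' * hermForm 3 F q x x, fun v => ?_⟩
  have h1 : hermForm 3 F q (act B v) z = hermForm 3 F q v z := by
    rw [hBv, herm_add_left, herm_add_left, herm_smul_left, herm_smul_left, hxz, hzz, mul_zero, mul_zero, add_zero,
      add_zero]
  have h2 : hermForm 3 F q (act B v) x = hermForm 3 F q v x + hermForm 3 F q v z * g' * hermForm 3 F q x x := by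
    rw [hBv, herm_add_left, herm_add_left, herm_smul_left, herm_smul_left, hzx, mul_zero, add_zero]
  rw [act_mul, hAv, h1, h2, hBv, add_pow_q hF]
  module

/-- conjugation by homologies with centre `x` -/
theorem ty_hom (hF : Fintype.card F = q ^ 2) (hxz : hermForm 3 F q x z = 0)
    (hx : hermForm 3 F q x x ≠ 0) {m : F} (hm : m ^ (q + 1) = 1) (hH : hom hF x m hx hm ∈ H) {g : F}
    (h : Ty H x z g) : Ty H x z ((m ^ 3)⁻¹ * g) := by
  have hzx := herm_eq_zero_swap hF hxz
  have hm0 : m ≠ 0 := by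
    rintro rfl
    rw [zero_pow (by omega)] at hm
    exact zero_ne_one hm
  have hmq : m ^ q = m⁻¹ := by
    rw [pow_succ] at hm
    exact eq_inv_of_mul_eq_one_left hm
  obtain ⟨A, hA, l, hAv⟩ := h
  refine ⟨hom hF x m hx hm * A * (hom hF x m hx hm)⁻¹, H.mul_mem (H.mul_mem hH hA) (H.inv_mem hH), l, fun v => ?_⟩
  set! u := act (hom hF x m hx hm)⁻¹ v with hu
  have hv : v = m • u + (m * ((m ^ 3)⁻¹ - 1) * hermForm 3 F q u x / hermForm 3 F q x x) • x := by
    rw [← act_hom hF hx hm, hu, act_act_inv]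
  have h1 : hermForm 3 F q v z = m * hermForm 3 F q u z := by
    rw [hv, herm_add_left, herm_smul_left, herm_smul_left, hxz, mul_zero, add_zero]
  have h2 : hermForm 3 F q v x = m * (m ^ 3)⁻¹ * hermForm 3 F q u x := by
    rw [hv, herm_add_left, herm_smul_left, herm_smul_left]
    field_simp
    ring
  rw [act_mul, act_mul, ← hu, hAv, act_add, act_add, act_smul, act_smul]
  have h3 : act (hom hF x m hx hm) u = v := by rw [hu, act_act_inv]
  have h4 : act (hom hF x m hx hm) x = (m * (m ^ 3)⁻¹) • x := by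
    rw [act_hom, mul_div_assoc, div_self hx, mul_one, ← add_smul]
    congr 1
    ring
  have h5 : act (hom hF x m hx hm) z = m • z := by
    rw [act_hom, hzx, mul_zero, zero_div, zero_smul, add_zero]
  rw [h3, h4, h5, h1, h2, mul_pow, inv_pow, ← pow_mul, mul_comm 3 q, pow_mul, hmq, smul_smul, smul_smul]
  have e1 : hermForm 3 F q u z * g * (m * (m ^ 3)⁻¹) = m * hermForm 3 F q u z * ((m ^ 3)⁻¹ * g) := by ring
  have e2 : (l * hermForm 3 F q u z - g ^ q * hermForm 3 F q u x) * m =
      l * (m * hermForm 3 F q u z) - ((m⁻¹) ^ 3)⁻¹ * g ^ q * (m * (m ^ 3)⁻¹ * hermForm 3 F q u x) := by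
    field_simp
  rw [e1, e2]

/-- a pair of homologies on a tangent line -/
theorem ty_pair (hF : Fintype.card F = q ^ 2) (hzz : hermForm 3 F q z z = 0) (hxz : hermForm 3 F q x z = 0)
    (hx : hermForm 3 F q x x ≠ 0) {m : F} (hm : m ^ (q + 1) = 1) (hH : hom hF x m hx hm ∈ H) {b : F}
    (hx1 : hermForm 3 F q (x + b • z) (x + b • z) ≠ 0) (hH1 : hom hF (x + b • z) m hx1 hm ∈ H) :
    Ty H x z (((m ^ 3)⁻¹ - 1) * b ^ q / hermForm 3 F q x x) := by
  have hzx := herm_eq_zero_swap hF hxz
  have hm0 : m ≠ 0 := by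
    rintro rfl
    rw [zero_pow (by omega)] at hm
    exact zero_ne_one hm
  have hmq : m ^ q = m⁻¹ := by
    rw [pow_succ] at hm
    exact eq_inv_of_mul_eq_one_left hm
  have hN : hermForm 3 F q (x + b • z) (x + b • z) = hermForm 3 F q x x := by
    rw [herm_add_left, herm_add_right hF, herm_add_right hF, herm_smul_left, herm_smul_right, herm_smul_right,
      herm_smul_left, hzz, hxz, hzx]
    ring
  refine ⟨hom hF (x + b • z) m hx1 hm * (hom hF x m hx hm)⁻¹, H.mul_mem hH1 (H.inv_mem hH),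
    ((m ^ 3)⁻¹ - 1) * (b * b ^ q) / hermForm 3 F q x x, fun v => ?_⟩
  set! u := act (hom hF x m hx hm)⁻¹ v with hu
  have hv : v = m • u + (m * ((m ^ 3)⁻¹ - 1) * hermForm 3 F q u x / hermForm 3 F q x x) • x := by
    rw [← act_hom hF hx hm, hu, act_act_inv]
  have h1 : hermForm 3 F q v z = m * hermForm 3 F q u z := by
    rw [hv, herm_add_left, herm_smul_left, herm_smul_left, hxz, mul_zero, add_zero]
  have h2 : hermForm 3 F q v x = m * (m ^ 3)⁻¹ * hermForm 3 F q u x := by
    rw [hv, herm_add_left, herm_smul_left, herm_smul_left]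
    field_simp
    ring
  rw [act_mul, ← hu, act_hom hF hx1 hm, hN, h1, h2, herm_add_right hF, herm_smul_right]
  nth_rewrite 1 [hv]
  rw [div_pow, mul_pow, sub_pow_q hF, inv_pow, ← pow_mul, mul_comm 3 q, pow_mul, hmq, one_pow, pow_q_pow_q hF,
    herm_self_pow hF, smul_add (m * ((m ^ 3)⁻¹ - 1) * (hermForm 3 F q u x + b ^ q * hermForm 3 F q u z) /
      hermForm 3 F q x x), smul_smul _ b]
  have e1 : m * ((m ^ 3)⁻¹ - 1) * (hermForm 3 F q u x + b ^ q * hermForm 3 F q u z) / hermForm 3 F q x x =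
      m * ((m ^ 3)⁻¹ - 1) * hermForm 3 F q u x / hermForm 3 F q x x +
      m * hermForm 3 F q u z * (((m ^ 3)⁻¹ - 1) * b ^ q / hermForm 3 F q x x) := by ring
  have e2 : m * ((m ^ 3)⁻¹ - 1) * (hermForm 3 F q u x + b ^ q * hermForm 3 F q u z) / hermForm 3 F q x x * b =
      ((m ^ 3)⁻¹ - 1) * (b * b ^ q) / hermForm 3 F q x x * (m * hermForm 3 F q u z) -
      (((m⁻¹) ^ 3)⁻¹ - 1) * b / hermForm 3 F q x x * (m * (m ^ 3)⁻¹ * hermForm 3 F q u x) := by
    field_simp
    ring
  rw [e2, e1, add_smul]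
  abel

/-- the root elements at `z` -/
theorem root_mem (hF : Fintype.card F = q ^ 2) (hzz : hermForm 3 F q z z = 0) (hxz : hermForm 3 F q x z = 0)
    (hx : hermForm 3 F q x x ≠ 0) (hall : ∀ g, Ty H x z g) {c : F} (hc : c + c ^ q = 0) : utv hF z c hzz hc ∈ H := by
  have hzx := herm_eq_zero_swap hF hxz
  obtain ⟨y, hy⟩ := exists_sub_pow_eq hF (c := c / hermForm 3 F q x x) (by
    rw [div_pow, herm_self_pow hF, ← add_div, hc, zero_div])
  obtain ⟨A, hA, m, hAv⟩ := hall y
  obtain ⟨B, hB, m', hBv⟩ := hall 1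
  have key : A * B = utv hF z c hzz hc * (B * A) := by
    apply ext_act
    intro v
    rw [act_mul, act_mul, act_mul, act_utv]
    have h1 : hermForm 3 F q (act B v) z = hermForm 3 F q v z := by
      rw [hBv, herm_add_left, herm_add_left, herm_smul_left, herm_smul_left, hxz, hzz, mul_zero, mul_zero, add_zero,
        add_zero]
    have h2 : hermForm 3 F q (act B v) x = hermForm 3 F q v x + hermForm 3 F q v z * hermForm 3 F q x x := by
      rw [hBv, herm_add_left, herm_add_left, herm_smul_left, herm_smul_left, hzx, mul_zero, add_zero, mul_one]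
    have h3 : hermForm 3 F q (act A v) z = hermForm 3 F q v z := by
      rw [hAv, herm_add_left, herm_add_left, herm_smul_left, herm_smul_left, hxz, hzz, mul_zero, mul_zero, add_zero,
        add_zero]
    have h4 : hermForm 3 F q (act A v) x = hermForm 3 F q v x + hermForm 3 F q v z * y * hermForm 3 F q x x := by
      rw [hAv, herm_add_left, herm_add_left, herm_smul_left, herm_smul_left, hzx, mul_zero, add_zero]
    have h5 : hermForm 3 F q (act B (act A v)) z = hermForm 3 F q v z := by
      rw [hBv, herm_add_left, herm_add_left, herm_smul_left, herm_smul_left, hxz, hzz, mul_zero, mul_zero, add_zero,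
        add_zero, h3]
    have hc' : c = (y - y ^ q) * hermForm 3 F q x x := by rw [hy, div_mul_cancel₀ _ hx]
    rw [h5, hAv (act B v), h1, h2, hBv (act A v), h3, h4, hBv, hAv, one_pow, hc']
    module
  have h6 : utv hF z c hzz hc = A * B * (B * A)⁻¹ := by rw [key, mul_inv_cancel_right]
  rw [h6]
  exact H.mul_mem (H.mul_mem hA hB) (H.inv_mem (H.mul_mem hB hA))

/-- the vectors orthogonal to `x` and `z` -/
theorem perp_pair (hF : Fintype.card F = q ^ 2) (hz0 : z ≠ 0) (hzz : hermForm 3 F q z z = 0)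
    (hxz : hermForm 3 F q x z = 0) (hx : hermForm 3 F q x x ≠ 0) {u : Fin 3 → F} (hux : hermForm 3 F q u x = 0)
    (huz : hermForm 3 F q u z = 0) : ∃ d : F, u = d • z := by
  have hnd : ∀ u ∈ Submodule.span F {x}, (∀ v ∈ Submodule.span F {x}, hermForm 3 F q u v = 0) → u = 0 := by
    intro u hu h0
    obtain ⟨c, rfl⟩ := Submodule.mem_span_singleton.1 hu
    have h3 := h0 x (Submodule.mem_span_singleton_self x)
    rw [herm_smul_left] at h3
    rw [(mul_eq_zero.1 h3).resolve_right hx, zero_smul]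
  set! U : Submodule F (Fin 3 → F) := hermPerp q (Submodule.span F {x} : Set (Fin 3 → F)) with hU
  have hmemU : ∀ v, hermForm 3 F q v x = 0 → v ∈ U := by
    intro v hv w hw
    obtain ⟨c, rfl⟩ := Submodule.mem_span_singleton.1 hw
    rw [herm_smul_right, hv, mul_zero]
  have hUd : Module.finrank F U = 2 := by
    have h3 : Module.finrank F (Submodule.span F {x}) + Module.finrank F U = 3 :=
      finrank_hermPerp_of_nondeg hF _ hnd
    rw [span_finrank hx] at h3
    omega
  have hUnd : Nd q U := hermPerp_nondeg hF _ hnd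
  have hzU : z ∈ U := hmemU z (herm_eq_zero_swap hF hxz)
  have huU : u ∈ U := hmemU u hux
  -- the functional
  set! f : U →ₗ[F] F := hermLeft q z ∘ₗ U.subtype with hf
  have hfa : ∀ w : U, f w = hermForm 3 F q (w : Fin 3 → F) z := fun w => rfl
  have hfs : Function.Surjective f := by
    obtain ⟨t, ht, htz⟩ : ∃ t ∈ U, hermForm 3 F q t z ≠ 0 := by
      by_contra hcon
      push Not at hcon
      exact hz0 (hUnd z hzU fun v hv => herm_eq_zero_swap hF (hcon v hv))
    intro c
    refine ⟨(c / hermForm 3 F q t z) • ⟨t, ht⟩, ?_⟩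
    rw [map_smul, hfa, smul_eq_mul, div_mul_cancel₀ _ htz]
  have hk : Module.finrank F (LinearMap.ker f) = 1 := by
    have h1 := LinearMap.finrank_range_add_finrank_ker f
    rw [hUd, LinearMap.range_eq_top.2 hfs, finrank_top, Module.finrank_self] at h1
    omega
  have hzk : (⟨z, hzU⟩ : U) ∈ LinearMap.ker f := hzz
  have huk : (⟨u, huU⟩ : U) ∈ LinearMap.ker f := huz
  obtain ⟨d, hd⟩ := (finrank_eq_one_iff_of_nonzero' (⟨⟨z, hzU⟩, hzk⟩ : LinearMap.ker f) (by
    intro h0
    exact hz0 ((congrArg (fun w : LinearMap.ker f => ((w : U) : Fin 3 → F)) h0 :)))).1 hk ⟨⟨u, huU⟩, huk⟩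
  exact ⟨d, (congrArg (fun w : LinearMap.ker f => ((w : U) : Fin 3 → F)) hd).symm⟩

/-- transitivity of the Siegel elements -/
theorem ty_trans (hF : Fintype.card F = q ^ 2) (hz0 : z ≠ 0) (hzz : hermForm 3 F q z z = 0)
    (hxz : hermForm 3 F q x z = 0) (hx : hermForm 3 F q x x ≠ 0) (hall : ∀ g, Ty H x z g) {v v' : Fin 3 → F}
    (hv : hermForm 3 F q v v = 0) (hv' : hermForm 3 F q v' v' = 0) (hvz : hermForm 3 F q v z = 1)
    (hvz' : hermForm 3 F q v' z = 1) : ∃ A ∈ H, act A v = v' := by
  have hwz : hermForm 3 F q (v' - v) z = 0 := by rw [herm_sub_left, hvz, hvz', sub_self]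
  have hμ : hermForm 3 F q v v' + hermForm 3 F q v v' ^ q + hermForm 3 F q (v' - v) (v' - v) = 0 := by
    rw [← herm_swap hF, herm_sub_left, herm_sub_right hF, herm_sub_right hF, hv, hv']
    ring
  set! S := siegel hF z (v' - v) (hermForm 3 F q v v') hzz hwz hμ with hS
  have hSv : act S v = v' := by
    rw [hS, act_siegel, hvz, one_smul, herm_sub_right hF, hv, mul_one, sub_zero, sub_self, zero_smul, add_zero,
      add_sub_cancel]
  set! g := hermForm 3 F q (v' - v) x / hermForm 3 F q x x with hg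
  obtain ⟨d, hd⟩ := perp_pair hF hz0 hzz hxz hx (u := v' - v - g • x)
    (by rw [herm_sub_left, herm_smul_left, hg, div_mul_cancel₀ _ hx, sub_self])
    (by rw [herm_sub_left, herm_smul_left, hwz, hxz, mul_zero, sub_zero])
  obtain ⟨A, hA, m, hAv⟩ := hall g
  have hw : v' - v = g • x + d • z := by rw [← hd]; abel
  -- `S = K A` with `K` a root element
  set! c := hermForm 3 F q v v' + d - d ^ q - m with hc
  have hSA : ∀ y, act S y = act A y + (c * hermForm 3 F q y z) • z := by
    intro y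
    rw [hS, act_siegel, hAv, hw, herm_add_right hF, herm_smul_right, herm_smul_right, hc]
    module
  have hAz : ∀ y, hermForm 3 F q (act A y) z = hermForm 3 F q y z := by
    intro y
    rw [hAv, herm_add_left, herm_add_left, herm_smul_left, herm_smul_left, hxz, hzz, mul_zero, mul_zero, add_zero,
      add_zero]
  have hcc : c + c ^ q = 0 := by
    have h1 := herm_act S v v
    have hzA : hermForm 3 F q z (act A v) = 1 := by
      rw [herm_swap hF (act A v) z, hAz, hvz, one_pow]
    rw [hSA, herm_add_left, herm_add_right hF, herm_add_right hF, herm_act A, herm_smul_left, herm_smul_right,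
      herm_smul_left, herm_smul_right, hzz, hvz, mul_one, hAz, hvz, hzA] at h1
    linear_combination h1
  have hK : S = utv hF z c hzz hcc * A := by
    apply ext_act
    intro y
    rw [act_mul, act_utv, hAz, hSA]
  exact ⟨S, by rw [hK]; exact H.mul_mem (root_mem hF hzz hxz hx hall hcc) hA, hSv⟩

/-- **Generation.** -/
theorem top_of_ty (hF : Fintype.card F = q ^ 2) (hq : q ≠ 2) (hz0 : z ≠ 0) (hzz : hermForm 3 F q z z = 0)
    (hxz : hermForm 3 F q x z = 0) (hx : hermForm 3 F q x x ≠ 0) (hall : ∀ g, Ty H x z g)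
    (hmove : ∃ A ∈ H, hermForm 3 F q (act A z) z ≠ 0) : H = ⊤ := by
  have hmap : ∀ {A : SU 3 F q}, suGL 3 F q A ∈ H.map (suGL 3 F q) ↔ A ∈ H := by
    intro A
    constructor
    · rintro ⟨B, hB, h⟩
      rw [← suGL_injective h]
      exact hB
    · intro h
      exact ⟨A, h, rfl⟩
  have hSz : InS q (H.map (suGL 3 F q)) z :=
    inS_of_forall hF hzz fun c hc => hmap.2 (root_mem hF hzz hxz hx hall hc)
  obtain ⟨A, hA, hAz⟩ := hmove
  have hSA : InS q (H.map (suGL 3 F q)) (act A z) := by
    rw [← suGL_mulVec]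
    exact InS.map (hmap.2 hA) (suGL_mem A).1 hSz
  have key := su_le hF le_rfl (fun h => hq h.2) (M := H.map (suGL 3 F q)) (fun v hv => by
    by_cases hvz : hermForm 3 F q v z = 0
    · -- `v` is a multiple of `z`
      set! g := hermForm 3 F q v x / hermForm 3 F q x x with hg
      obtain ⟨d, hd⟩ := perp_pair hF hz0 hzz hxz hx (u := v - g • x)
        (by rw [herm_sub_left, herm_smul_left, hg, div_mul_cancel₀ _ hx, sub_self])
        (by rw [herm_sub_left, herm_smul_left, hvz, hxz, mul_zero, sub_zero])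
      have hw : v = g • x + d • z := by rw [← hd]; abel
      have hzx := herm_eq_zero_swap hF hxz
      have h1 : g * g ^ q * hermForm 3 F q x x = 0 := by
        rw [hw] at hv
        simp only [herm_add_left, herm_add_right hF, herm_smul_left, herm_smul_right, hzz, hxz, hzx] at hv
        linear_combination hv
      have h2 : g = 0 := (norm_eq_zero hF).1 ((mul_eq_zero.1 h1).resolve_right hx)
      rw [hw, h2, zero_smul, zero_add]
      exact InS.smul hF hSz d
    · obtain ⟨B, hB, hBv⟩ := ty_trans hF hz0 hzz hxz hx hall (v := (hermForm 3 F q (act A z) z)⁻¹ • act A z)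
        (v' := (hermForm 3 F q v z)⁻¹ • v)
        (by rw [herm_smul_self, herm_act, hzz, mul_zero]) (by rw [herm_smul_self, hv, mul_zero])
        (by rw [herm_smul_left, inv_mul_cancel₀ hAz]) (by rw [herm_smul_left, inv_mul_cancel₀ hvz])
      have h1 := InS.map (hmap.2 hB) (suGL_mem B).1 (InS.smul hF hSA (hermForm 3 F q (act A z) z)⁻¹)
      rw [suGL_mulVec, hBv] at h1
      have h2 := InS.smul hF h1 (hermForm 3 F q v z)
      rwa [smul_smul, mul_inv_cancel₀ hvz, one_smul] at h2)
  rw [eq_top_iff]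
  intro B _
  exact hmap.1 (key (suGL_mem B))

end Cfsg.Agent.H242.StrP.Uni
end

-- part: H242/StrP/UniField
section
/-!
# Additive subgroups of `F_{q ^ 2}` closed under multiplication by cubes of norm one (helper242, for S2120)

`all_of_closed` : for `q > 5`, `3 ∣ q + 1`, `9 ∤ q + 1` such a non-zero subgroup is everything.
-/

set_option autoImplicit false

namespace Cfsg.Agent.H242.StrP.Uni

open Cfsg Cfsg.Agent.LieClassical.HermBasic

theorem arith_aux {q k j : ℕ} (hq : 5 < q) (h9 : ¬ 9 ∣ q + 1) (hk : 2 ≤ k) (hj : 2 ≤ j) (hqk : q ^ 2 = k ^ j)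
    (hdvd : q + 1 ∣ 3 * (k - 1)) : False := by
  have hle : q + 1 ≤ 3 * (k - 1) := Nat.le_of_dvd (by omega) hdvd
  by_cases hj2 : j = 2
  · subst hj2
    have hkq : k = q := (Nat.pow_left_injective (n := 2) (by norm_num) hqk).symm
    subst hkq
    obtain ⟨c, hc⟩ := hdvd
    have h1 : c < 3 := by
      by_contra h
      have : 3 ≤ c := by omega
      have h2 : (k + 1) * 3 ≤ (k + 1) * c := Nat.mul_le_mul_left _ this
      omega
    interval_cases c <;> (clear * - hq hle hc; omega)
  · have hj3 : 3 ≤ j := by omega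
    have h1 : k ^ 3 ≤ q ^ 2 := by rw [hqk]; exact Nat.pow_le_pow_right (by omega) hj3
    have h2 : q < 3 * k := by omega
    have h3 : q ^ 2 < (3 * k) ^ 2 := Nat.pow_lt_pow_left h2 (by norm_num)
    have h4 : k < 9 := by
      by_contra h
      have h5 : 9 ≤ k := by omega
      have h6 : k ^ 3 = k * k ^ 2 := by ring
      have h7 : 9 * k ^ 2 ≤ k * k ^ 2 := Nat.mul_le_mul_right _ h5
      have h8 : (3 * k) ^ 2 = 9 * k ^ 2 := by ring
      omega
    have h5 : q ≤ 20 := by omega
    have h6 : j < 9 := by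
      by_contra h
      have h7 : 2 ^ 9 ≤ k ^ j := (Nat.pow_le_pow_left hk 9).trans (Nat.pow_le_pow_right (by omega) (by omega))
      have h8 : q ^ 2 ≤ 20 ^ 2 := Nat.pow_le_pow_left h5 2
      omega
    interval_cases j <;> interval_cases k <;> (interval_cases q <;> (clear * - hdvd h9 h1; omega))

variable {F : Type} [Field F] [Fintype F] {q : ℕ}

theorem exists_order (hF : Fintype.card F = q ^ 2) : ∃ t : Fˣ, orderOf t = q + 1 := by
  classical
  obtain ⟨g, hg⟩ := IsCyclic.exists_generator (α := Fˣ)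
  have h1 : orderOf g = (q + 1) * (q - 1) := by
    rw [orderOf_eq_card_of_forall_mem_zpowers hg, card_units_eq hF]
  have h2 := two_le hF
  refine ⟨g ^ (q - 1), ?_⟩
  rw [orderOf_pow, h1, Nat.gcd_eq_right (Dvd.intro_left _ rfl), Nat.mul_div_cancel _ (by omega)]

theorem all_of_closed (hF : Fintype.card F = q ^ 2) (h9 : ¬ 9 ∣ q + 1) (hq : 5 < q) (A : AddSubgroup F) {g0 : F}
    (hg0 : g0 ∈ A) (hg00 : g0 ≠ 0) (hm : ∀ m : F, m ^ (q + 1) = 1 → ∀ g ∈ A, m ^ 3 * g ∈ A) : A = ⊤ := by
  classical
  let K : Subfield F :=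
    { carrier := {s | ∀ a ∈ A, s * a ∈ A}
      mul_mem' := fun {s t} hs ht a ha => by rw [mul_assoc]; exact hs _ (ht a ha)
      one_mem' := fun a ha => by rw [one_mul]; exact ha
      add_mem' := fun {s t} hs ht a ha => by rw [add_mul]; exact A.add_mem (hs a ha) (ht a ha)
      zero_mem' := fun a ha => by rw [zero_mul]; exact A.zero_mem
      neg_mem' := fun {s} hs a ha => by rw [neg_mul]; exact A.neg_mem (hs a ha)
      inv_mem' := fun s hs a ha => by
        by_cases h0 : s = 0
        · rw [h0, inv_zero, zero_mul]; exact A.zero_mem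
        · let f : A → A := fun a => ⟨s * a, hs a a.2⟩
          have hf : Function.Injective f := by
            intro a b hab
            have h1 : s * (a : F) = s * b := congrArg Subtype.val hab
            exact Subtype.ext (mul_left_cancel₀ h0 h1)
          obtain ⟨b, hb⟩ := Finite.surjective_of_injective hf ⟨a, ha⟩
          have h1 : s * (b : F) = a := congrArg Subtype.val hb
          rw [← h1, inv_mul_cancel_left₀ h0]
          exact b.2 }
  have hK : ∀ s, s ∈ K ↔ ∀ a ∈ A, s * a ∈ A := fun s => Iff.rfl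
  have hcard : Fintype.card F = Fintype.card K ^ Module.finrank K F := Module.card_eq_pow_finrank
  have hk2 : 2 ≤ Fintype.card K := Fintype.one_lt_card
  have hj0 : 0 < Module.finrank K F := Module.finrank_pos
  obtain ⟨t, ht⟩ := exists_order hF
  have htq : (t : F) ^ (q + 1) = 1 := by
    rw [← Units.val_pow_eq_pow_val, ← ht, pow_orderOf_eq_one, Units.val_one]
  have ht3 : (t : F) ^ 3 ∈ K := (hK _).2 (hm _ htq)
  have hfix : ((t : F) ^ 3) ^ Fintype.card K = (t : F) ^ 3 := by
    have h1 := FiniteField.pow_card (⟨(t : F) ^ 3, ht3⟩ : K)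
    have h2 := congrArg Subtype.val h1
    simpa only [_root_.SubmonoidClass.mk_pow] using h2
  have hdvd : q + 1 ∣ 3 * (Fintype.card K - 1) := by
    rw [← ht]
    apply orderOf_dvd_of_pow_eq_one
    apply Units.ext
    rw [Units.val_pow_eq_pow_val, Units.val_one, pow_mul]
    have h1 : (t : F) ^ 3 ≠ 0 := pow_ne_zero _ t.ne_zero
    apply mul_left_cancel₀ h1
    rw [← pow_succ', Nat.sub_add_cancel (by omega), hfix, mul_one]
  by_cases hj : Module.finrank K F = 1
  · rw [hj, pow_one] at hcard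
    have hb : Function.Bijective (Subtype.val : K → F) := by
      rw [Fintype.bijective_iff_injective_and_card]
      exact ⟨Subtype.val_injective, hcard.symm⟩
    rw [eq_top_iff]
    intro y _
    obtain ⟨s, hs⟩ := hb.2 (y / g0)
    have h1 := (hK _).1 s.2 g0 hg0
    rw [hs, div_mul_cancel₀ _ hg00] at h1
    exact h1
  · exfalso
    rw [hF] at hcard
    exact arith_aux hq h9 hk2 (by omega) hcard hdvd

end Cfsg.Agent.H242.StrP.Uni
end

-- part: H242/StrP/UniNine
section
/-!
# `PSU_3(q)`, `p = 3`, `3 ∣ q + 1`, `9 ∤ q + 1` (helper242, for S2120)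

`noSP_three_nine` : `q ≠ 2`.
-/

set_option autoImplicit false
set_option linter.unusedSectionVars false

namespace Cfsg.Agent.H242.StrP.Uni

open Cfsg Subgroup Cfsg.Agent.H818.StrP Cfsg.Agent.H818.StrP.Opp Cfsg.Agent.PreUniq.Cl Cfsg.Agent.H242.StrP
  Cfsg.Agent.LieClassical.HermBasic Cfsg.Agent.ClassicalGeometry.UnitTransv Cfsg.Agent.ClassicalGeometry.HermOrtho
  Cfsg.Agent.H876

open scoped Matrix MatrixGroups

variable {F : Type} [Field F] [Fintype F] {q : ℕ}

section Elements

/-- the cyclic permutation -/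
def rotM (F : Type) [Field F] : Matrix (Fin 3) (Fin 3) F := !![0, 1, 0; 0, 0, 1; 1, 0, 0]

omit [Fintype F] in
theorem rotM_mulVec (v : Fin 3 → F) : rotM F *ᵥ v = ![v 1, v 2, v 0] := by
  funext i
  (revert i; simp only [rotM, Matrix.mulVec, dotProduct, Fin.sum_univ_three, _root_.Fin.forall_fin_succ, _root_.Matrix.of_apply, _root_.Matrix.cons_val', _root_.Matrix.cons_val_fin_one, Fin.isValue, _root_.Matrix.cons_val_zero, _root_.Matrix.cons_val_one, _root_.Matrix.cons_val, _root_.Nat.succ_eq_add_one, Nat.reduceAdd, _root_.MulZeroClass.zero_mul, _root_.one_mul, _root_.zero_add, _root_.add_zero, _root_.Matrix.cons_val_succ, _root_.implies_true, _root_.and_self])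

def rot (F : Type) [Field F] (q : ℕ) : SU 3 F q :=
  _root_.Cfsg.Agent.ClassicalGeometry.UnitTransv.mk (rotM F) (by simp [rotM, Matrix.det_fin_three]) (fun u v => by
    rw [rotM_mulVec, rotM_mulVec, herm_def, herm_def, Fin.sum_univ_three, Fin.sum_univ_three]
    show u 1 * v 1 ^ q + u 2 * v 2 ^ q + u 0 * v 0 ^ q = _
    ring)

theorem act_rot (v : Fin 3 → F) : act (rot F q) v = ![v 1, v 2, v 0] := by
  rw [rot, act_mk, rotM_mulVec]

theorem herm_three (u v : Fin 3 → F) :
    hermForm 3 F q u v = u 0 * v 0 ^ q + u 1 * v 1 ^ q + u 2 * v 2 ^ q := by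
  rw [herm_def, Fin.sum_univ_three]

theorem center_of_smul {n : ℕ} {C : SU n F q} {c : F} (hC : ∀ v, act C v = c • v) : C ∈ center (SU n F q) := by
  rw [Subgroup.mem_center_iff]
  intro D
  apply ext_act
  intro v
  rw [act_mul, act_mul, hC, hC, act_smul]

/-- scaling the centre of a homology -/
theorem hom_smul (hF : Fintype.card F = q ^ 2) {x : Fin 3 → F} {m l : F} (hx : hermForm 3 F q x x ≠ 0)
    (hm : m ^ (q + 1) = 1) (hlx : hermForm 3 F q (l • x) (l • x) ≠ 0) : hom hF (l • x) m hlx hm = hom hF x m hx hm := by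
  have hl : l ≠ 0 := by rintro rfl; rw [zero_smul, herm_zero_left] at hlx; exact hlx rfl
  have hlq : l ^ q ≠ 0 := pow_ne_zero _ hl
  apply ext_act
  intro v
  rw [act_hom, act_hom, smul_smul]
  congr 2
  rw [herm_smul_self, herm_smul_right]
  field_simp

/-- conjugating homologies -/
theorem hom_conj (hF : Fintype.card F = q ^ 2) {x : Fin 3 → F} {m : F} (hx : hermForm 3 F q x x ≠ 0)
    (hm : m ^ (q + 1) = 1) (A : SU 3 F q) (hAx : hermForm 3 F q (act A x) (act A x) ≠ 0) :
    hom hF (act A x) m hAx hm = A * hom hF x m hx hm * A⁻¹ := by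
  apply ext_act
  intro v
  rw [act_mul, act_mul, act_hom, act_hom, act_add, act_smul, act_smul, act_act_inv, herm_act A x x]
  congr 3
  rw [← herm_act A (act A⁻¹ v) x, act_act_inv]

/-- negatives -/
theorem ty_neg (hF : Fintype.card F = q ^ 2) {H : Subgroup (SU 3 F q)} {x z : Fin 3 → F}
    (hzz : hermForm 3 F q z z = 0) (hxz : hermForm 3 F q x z = 0) {g : F} (h : Ty H x z g) : Ty H x z (-g) := by
  have hzx := herm_eq_zero_swap hF hxz
  obtain ⟨A, hA, m, hAv⟩ := h
  refine ⟨A⁻¹, H.inv_mem hA, -m - g ^ q * g * hermForm 3 F q x x, fun v => ?_⟩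
  set u := act A⁻¹ v with hu
  have hv : v = u + (hermForm 3 F q u z * g) • x + (m * hermForm 3 F q u z - g ^ q * hermForm 3 F q u x) • z := by
    rw [← hAv, hu, act_act_inv]
  have h1 : hermForm 3 F q v z = hermForm 3 F q u z := by
    rw [hv, herm_add_left, herm_add_left, herm_smul_left, herm_smul_left, hxz, hzz, mul_zero, mul_zero, add_zero,
      add_zero]
  have h2 : hermForm 3 F q v x = hermForm 3 F q u x + hermForm 3 F q u z * g * hermForm 3 F q x x := by
    rw [hv, herm_add_left, herm_add_left, herm_smul_left, herm_smul_left, hzx, mul_zero, add_zero]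
  rw [h1, h2, neg_pow_q hF]
  conv_rhs => rw [hv]
  module

end Elements

variable {G : Type*} [Group G] [Finite G]

/-- the data -/
structure Data (q : ℕ) (H : Subgroup (SU 3 F q)) : Prop where
  diag : ∀ (d : Fin 3 → Fˣ), ∏ i, d i = 1 → (∀ i, d i ^ (q + 1) = 1) → ∀ A : SU 3 F q,
    (∀ v, act A v = fun i => (d i : F) * v i) → A ∈ H
  homs : ∀ (hF : Fintype.card F = q ^ 2) (c : Fin 3 → Fˣ), (∀ i, c i ^ (q + 1) = 1) →
    ∀ (m : F) (hc : hermForm 3 F q (fun i => (c i : F)) (fun i => (c i : F)) ≠ 0) (hm : m ^ (q + 1) = 1),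
    hom hF (fun i => (c i : F)) m hc hm ∈ H

/-- a strongly `3`-embedded subgroup gives the data -/
theorem exists_data [Fact (Nat.Prime 3)] (hF : Fintype.card F = q ^ 2) (h3 : 3 ∣ q + 1) (e : G ≃* PSU 3 F q)
    (h : ¬ NoSP 3 G) : ∃ H : Subgroup (SU 3 F q), H ≠ ⊤ ∧ Data q H := by
  obtain ⟨t, ht⟩ := exists_order hF
  obtain ⟨k, hk⟩ := h3
  set! w : Fˣ := t ^ k with hw
  have hk0 : 0 < k := by omega
  have hwo : orderOf w = 3 := by
    rw [hw, orderOf_pow, ht, hk, Nat.gcd_eq_right (Dvd.intro_left _ rfl), Nat.mul_div_cancel _ hk0]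
  have hw3 : w ^ 3 = 1 := by rw [← hwo]; exact pow_orderOf_eq_one w
  have hw1 : w ≠ 1 := by
    intro h1
    rw [h1, orderOf_one] at hwo
    omega
  have hwq : w ^ (q + 1) = 1 := by rw [hk, pow_mul, hw3, one_pow]
  have hwF : (w : F) ^ 3 = 1 := by rw [← Units.val_pow_eq_pow_val, hw3, Units.val_one]
  obtain ⟨a, ha⟩ := exists_dgSU hF (d := ![1, w, w ^ 2]) (by
    rw [Fin.prod_univ_three]
    show 1 * w * w ^ 2 = 1
    rw [one_mul, ← pow_succ', hw3]) (by
    intro i
    fin_cases i
    · exact one_pow _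
    · exact hwq
    · show (w ^ 2) ^ (q + 1) = 1
      rw [← pow_mul, mul_comm, pow_mul, hwq, one_pow])
  have ha' : ∀ v, act a v = ![v 0, (w : F) * v 1, (w : F) ^ 2 * v 2] := by
    intro v
    rw [ha]
    funext i
    fin_cases i
    · show ((1 : Fˣ) : F) * v 0 = v 0
      rw [Units.val_one, one_mul]
    · rfl
    · show ((w ^ 2 : Fˣ) : F) * v 2 = (w : F) ^ 2 * v 2
      rw [Units.val_pow_eq_pow_val]
  have ha3 : a ^ 3 = 1 := by
    apply ext_act
    intro v
    rw [pow_succ, sq, act_mul, act_mul, ha', ha', ha', act_one]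
    funext i
    fin_cases i
    · rfl
    · show (w : F) * ((w : F) * ((w : F) * v 1)) = v 1
      linear_combination (v 1) * hwF
    · show (w : F) ^ 2 * ((w : F) ^ 2 * ((w : F) ^ 2 * v 2)) = v 2
      linear_combination (v 2) * ((w : F) ^ 3 + 1) * hwF
  have hb3 : (rot F q) ^ 3 = 1 := by
    apply ext_act
    intro v
    rw [pow_succ, sq, act_mul, act_mul, act_rot, act_rot, act_rot, act_one]
    funext i
    fin_cases i <;> rfl
  have ha1 : a ∉ center (SU 3 F q) := by
    intro h1
    exact hw1 (eq_of_center hF le_rfl ha h1 0 1).symm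
  have hab : projC e a * projC e (rot F q) = projC e (rot F q) * projC e a := by
    have h1 : rot F q * a * (a * rot F q)⁻¹ ∈ center (SU 3 F q) := by
      refine center_of_smul (c := (w : F)) fun v => ?_
      set! u := act (a * rot F q)⁻¹ v with hu
      have hv : v = act (a * rot F q) u := by rw [hu, act_act_inv]
      rw [act_mul, ← hu, hv, act_mul, act_mul, ha', act_rot, act_rot, ha']
      funext i
      fin_cases i
      · rfl
      · show (w : F) ^ 2 * u 2 = (w : F) * ((w : F) * u 2)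
        ring
      · show u 0 = (w : F) * ((w : F) ^ 2 * u 0)
        linear_combination -(u 0) * hwF
    rw [← projC_eq_one_iff e, map_mul, map_inv, mul_inv_eq_one, map_mul, map_mul] at h1
    exact h1.symm
  -- the strongly embedded subgroup
  have hex : ∃ M0 : Subgroup G, IsStronglyPEmbedded 3 M0 := by
    by_contra hcon
    push Not at hcon
    exact h hcon
  obtain ⟨M0, hM0⟩ := hex
  have hE := pair_elem (p := 3) (x := projC e a) (y := projC e (rot F q)) (by rw [← map_pow, ha3, map_one])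
    (by rw [← map_pow, hb3, map_one]) hab
  obtain ⟨M, hM, hEM⟩ := exists_ge hM0 (E := _root_.Subgroup.closure {projC e a, projC e (rot F q)})
    (fun a => ⟨1, Subtype.ext (by rw [pow_one]; exact hE.2 a.1 a.2)⟩)
  have ma : projC e a ∈ M := hEM (_root_.Subgroup.subset_closure (Or.inl rfl))
  have mb : projC e (rot F q) ∈ M := hEM (_root_.Subgroup.subset_closure (Or.inr rfl))
  have hdiag : ∀ (d : Fin 3 → Fˣ) (A : SU 3 F q), (∀ v, act A v = fun i => (d i : F) * v i) → projC e A ∈ M := by
    intro d A hA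
    refine mem_of_comm' hM ma (by rw [ha3]; exact one_mem _) ha1 fun v => ?_
    rw [hA, ha, ha, hA]
    funext i
    ring
  refine ⟨M.comap (projC e), ?_, fun d _ _ A hA => hdiag d A hA, ?_⟩
  · intro htop
    apply hM.2.1
    rw [eq_top_iff]
    intro g _
    obtain ⟨A, rfl⟩ := projC_surjective e g
    have : A ∈ M.comap (projC e) := by rw [htop]; exact Subgroup.mem_top _
    exact this
  · intro hF' c hc m hcc hm
    show projC e _ ∈ M
    obtain ⟨T, hT⟩ := exists_dgSU hF (d := ![c 0 / c 1, c 1 / c 2, c 2 / c 0]) (by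
      rw [Fin.prod_univ_three]
      show c 0 / c 1 * (c 1 / c 2) * (c 2 / c 0) = 1
      rw [div_mul_div_cancel, div_mul_div_cancel, div_self']) (by
      intro i
      fin_cases i
      · show (c 0 / c 1) ^ (q + 1) = 1
        rw [div_pow, hc, hc, div_one]
      · show (c 1 / c 2) ^ (q + 1) = 1
        rw [div_pow, hc, hc, div_one]
      · show (c 2 / c 0) ^ (q + 1) = 1
        rw [div_pow, hc, hc, div_one])
    have mB : projC e (T * rot F q) ∈ M := by rw [map_mul]; exact M.mul_mem (hdiag _ _ hT) mb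
    have hB : ∀ v, act (T * rot F q) v = ![(c 0 : F) / c 1 * v 1, (c 1 : F) / c 2 * v 2, (c 2 : F) / c 0 * v 0] := by
      intro v
      rw [act_mul, act_rot, hT]
      funext i
      fin_cases i
      · show ((c 0 / c 1 : Fˣ) : F) * v 1 = _
        rw [Units.val_div_eq_div_val]
        rfl
      · show ((c 1 / c 2 : Fˣ) : F) * v 2 = _
        rw [Units.val_div_eq_div_val]
        rfl
      · show ((c 2 / c 0 : Fˣ) : F) * v 0 = _
        rw [Units.val_div_eq_div_val]
        rfl
    have hc0 : (c 0 : F) ≠ 0 := (c 0).ne_zero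
    have hc1 : (c 1 : F) ≠ 0 := (c 1).ne_zero
    have hc2 : (c 2 : F) ≠ 0 := (c 2).ne_zero
    have hB3 : (T * rot F q) ^ 3 = 1 := by
      apply ext_act
      intro v
      rw [pow_succ, sq, act_mul, act_mul, hB, hB, hB, act_one]
      funext i
      fin_cases i
      · show (c 0 : F) / c 1 * ((c 1 : F) / c 2 * ((c 2 : F) / c 0 * v 0)) = v 0
        field_simp
      · show (c 1 : F) / c 2 * ((c 2 : F) / c 0 * ((c 0 : F) / c 1 * v 1)) = v 1
        field_simp
      · show (c 2 : F) / c 0 * ((c 0 : F) / c 1 * ((c 1 : F) / c 2 * v 2)) = v 2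
        field_simp
    have hBc : act (T * rot F q) (fun i => (c i : F)) = fun i => (c i : F) := by
      rw [hB]
      funext i
      fin_cases i
      · show (c 0 : F) / c 1 * c 1 = c 0
        field_simp
      · show (c 1 : F) / c 2 * c 2 = c 1
        field_simp
      · show (c 2 : F) / c 0 * c 0 = c 2
        field_simp
    have hB1 : T * rot F q ∉ center (SU 3 F q) := by
      intro h1
      obtain ⟨l, hl⟩ := center_smul hF le_rfl h1
      have h2 := congrFun ((hB (Pi.single 0 1)).symm.trans (hl (Pi.single 0 1))) 2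
      simp at h2
    refine mem_of_comm' hM mB (by rw [hB3]; exact one_mem _) hB1 fun v => ?_
    rw [act_hom, act_hom, act_add, act_smul, act_smul, hBc]
    congr 4
    conv_lhs => rw [← hBc, herm_act]

section Tangent

variable {H : Subgroup (SU 3 F q)}

/-- **From a tangent pair to everything.** `x = (1, 1, 1)`. -/
theorem top_of_tangent (hF : Fintype.card F = q ^ 2) (h3 : 3 ∣ q + 1) (h3F : (3 : F) ≠ 0) (hq2 : q ≠ 2)
    (hH : Data q H) {z : Fin 3 → F} (hz0 : z ≠ 0) (hzz : hermForm 3 F q z z = 0)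
    (hxz : hermForm 3 F q (fun _ => 1) z = 0) (hall : ∀ g, Ty H (fun _ => 1) z g) : H = ⊤ := by
  have hx : hermForm 3 F q (fun _ => (1 : F)) (fun _ => 1) ≠ 0 := by
    rw [herm_three]
    simp only [one_pow, mul_one]
    intro h0
    apply h3F
    rw [← h0]
    norm_num
  refine top_of_ty hF hq2 hz0 hzz hxz hx hall ?_
  obtain ⟨t, ht⟩ := exists_order hF
  obtain ⟨k, hk⟩ := h3
  set! w : Fˣ := t ^ k with hw
  have hk0 : 0 < k := by omega
  have hwo : orderOf w = 3 := by
    rw [hw, orderOf_pow, ht, hk, Nat.gcd_eq_right (Dvd.intro_left _ rfl), Nat.mul_div_cancel _ hk0]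
  have hw3 : w ^ 3 = 1 := by rw [← hwo]; exact pow_orderOf_eq_one w
  have hw1 : w ≠ 1 := by
    intro h1
    rw [h1, orderOf_one] at hwo
    omega
  have hwq : w ^ (q + 1) = 1 := by rw [hk, pow_mul, hw3, one_pow]
  have hwF : (w : F) ^ 3 = 1 := by rw [← Units.val_pow_eq_pow_val, hw3, Units.val_one]
  have hwF1 : (w : F) ≠ 1 := fun h => hw1 (Units.ext h)
  have hww : (w : F) ^ 2 + w + 1 = 0 := by
    have h1 : ((w : F) - 1) * ((w : F) ^ 2 + w + 1) = 0 := by linear_combination hwF
    exact (mul_eq_zero.1 h1).resolve_left (sub_ne_zero.2 hwF1)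
  obtain ⟨a, ha⟩ := exists_dgSU hF (d := ![1, w, w ^ 2]) (by
    rw [Fin.prod_univ_three]
    show 1 * w * w ^ 2 = 1
    rw [one_mul, ← pow_succ', hw3]) (by
    intro i
    fin_cases i
    · exact one_pow _
    · exact hwq
    · show (w ^ 2) ^ (q + 1) = 1
      rw [← pow_mul, mul_comm, pow_mul, hwq, one_pow])
  have haH : a ∈ H := by
    refine hH.diag ![1, w, w ^ 2] ?_ ?_ a ha
    · rw [Fin.prod_univ_three]
      show 1 * w * w ^ 2 = 1
      rw [one_mul, ← pow_succ', hw3]
    · intro i
      fin_cases i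
      · exact one_pow _
      · exact hwq
      · show (w ^ 2) ^ (q + 1) = 1
        rw [← pow_mul, mul_comm, pow_mul, hwq, one_pow]
  have ha' : ∀ v, act a v = ![v 0, (w : F) * v 1, (w : F) ^ 2 * v 2] := by
    intro v
    rw [ha]
    funext i
    fin_cases i
    · show ((1 : Fˣ) : F) * v 0 = v 0
      rw [Units.val_one, one_mul]
    · rfl
    · show ((w ^ 2 : Fˣ) : F) * v 2 = (w : F) ^ 2 * v 2
      rw [Units.val_pow_eq_pow_val]
  by_contra hcon
  push Not at hcon
  have h1 := hcon a haH
  have h2 := hcon (a ^ 2) (H.pow_mem haH 2)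
  rw [sq, act_mul] at h2
  rw [ha', herm_three] at h1
  rw [ha', ha', herm_three] at h2
  rw [herm_three] at hzz
  simp only [Matrix.cons_val_zero, Matrix.cons_val_one, Matrix.cons_val_two, Matrix.head_cons, Matrix.tail_cons]
    at h1 h2
  have n0 : z 0 * z 0 ^ q = 0 := by
    have : (3 : F) * (z 0 * z 0 ^ q) = 0 := by
      linear_combination hzz + h1 + h2 - (z 1 * z 1 ^ q) * hww - (z 2 * z 2 ^ q) * (hww + (w : F) * hwF)
    exact (mul_eq_zero.1 this).resolve_left h3F
  have n1 : z 1 * z 1 ^ q = 0 := by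
    have : (3 : F) * (z 1 * z 1 ^ q) = 0 := by
      linear_combination hzz + (w : F) ^ 2 * h1 + (w : F) * h2 - (z 0 * z 0 ^ q) * hww - 2 * (z 1 * z 1 ^ q) * hwF -
        (z 2 * z 2 ^ q) * (hww + ((w : F) + (w : F) ^ 2) * hwF)
    exact (mul_eq_zero.1 this).resolve_left h3F
  have n2 : z 2 * z 2 ^ q = 0 := by
    have : (3 : F) * (z 2 * z 2 ^ q) = 0 := by
      linear_combination hzz + (w : F) * h1 + (w : F) ^ 2 * h2 - (z 0 * z 0 ^ q) * hww -
        (z 1 * z 1 ^ q) * (hww + (w : F) * hwF) - (z 2 * z 2 ^ q) * ((w : F) ^ 3 + 2) * hwF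
    exact (mul_eq_zero.1 this).resolve_left h3F
  apply hz0
  funext i
  fin_cases i
  · exact (norm_eq_zero hF).1 n0
  · exact (norm_eq_zero hF).1 n1
  · exact (norm_eq_zero hF).1 n2

theorem three_pow (hF : Fintype.card F = q ^ 2) : (3 : F) ^ q = 3 := by
  have h1 : (3 : F) = 1 + 1 + 1 := by norm_num
  rw [h1, add_pow_q hF, add_pow_q hF, one_pow]

/-- the isotropic vector of a tangent line -/
theorem tangent_z (hF : Fintype.card F = q ^ 2) (h3F : (3 : F) ≠ 0) {c : Fin 3 → F} (hc : ∀ i, c i * c i ^ q = 1)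
    (hs : (c 0 + c 1 + c 2) * (c 0 + c 1 + c 2) ^ q = 9) (hne : ¬ (c 0 = c 1 ∧ c 1 = c 2)) :
    ∃ (z : Fin 3 → F) (l : F), l ≠ 0 ∧ z ≠ 0 ∧ hermForm 3 F q z z = 0 ∧ hermForm 3 F q (fun _ => 1) z = 0 ∧
      (fun _ => 1) + z = l • c ∧ l = 3 / (c 0 + c 1 + c 2) := by
  set s := c 0 + c 1 + c 2 with hsdef
  have h9 : (9 : F) ≠ 0 := by
    have : (9 : F) = 3 * 3 := by norm_num
    rw [this]
    exact mul_ne_zero h3F h3F
  have hs0 : s ≠ 0 := by
    intro h0
    rw [h0, zero_mul] at hs
    exact h9 hs.symm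
  have hsq0 : s ^ q ≠ 0 := pow_ne_zero _ hs0
  set l := 3 / s with hl
  have hl0 : l ≠ 0 := div_ne_zero h3F hs0
  have hls : l * s = 3 := div_mul_cancel₀ _ hs0
  have hlsq : l ^ q * s ^ q = 3 := by rw [← mul_pow, hls, three_pow hF]
  have hll : l * l ^ q = 1 := by
    have h1 : l * l ^ q * 9 = 9 := by
      rw [← hs]
      linear_combination (l ^ q * s ^ q) * hls + 3 * hlsq - hs
    exact mul_right_cancel₀ h9 (by rw [h1, one_mul])
  have hsq : s ^ q = c 0 ^ q + c 1 ^ q + c 2 ^ q := by rw [hsdef, add_pow_q hF, add_pow_q hF]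
  refine ⟨l • c - fun _ => 1, l, hl0, ?_, ?_, ?_, by abel, rfl⟩
  · intro h0
    apply hne
    have h1 : ∀ i, l * c i = 1 := fun i => sub_eq_zero.1 (congrFun h0 i)
    exact ⟨mul_left_cancel₀ hl0 ((h1 0).trans (h1 1).symm), mul_left_cancel₀ hl0 ((h1 1).trans (h1 2).symm)⟩
  · rw [herm_three]
    simp only [Pi.sub_apply, Pi.smul_apply, smul_eq_mul, sub_pow_q hF, mul_pow, one_pow]
    rw [hsq] at hlsq
    linear_combination (c 0 * c 0 ^ q + c 1 * c 1 ^ q + c 2 * c 2 ^ q) * hll + hc 0 + hc 1 + hc 2 - hls - hlsq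
  · rw [herm_three]
    simp only [Pi.sub_apply, Pi.smul_apply, smul_eq_mul, sub_pow_q hF, mul_pow, one_pow]
    rw [hsq] at hlsq
    linear_combination hlsq

/-- tangent pairs -/
theorem exists_tangent (hF : Fintype.card F = q ^ 2) (h3 : 3 ∣ q + 1) (h3F : (3 : F) ≠ 0) :
    ∃ c : Fin 3 → F, (∀ i, c i * c i ^ q = 1) ∧ (c 0 + c 1 + c 2) * (c 0 + c 1 + c 2) ^ q = 9 ∧
      ¬ (c 0 = c 1 ∧ c 1 = c 2) := by
  obtain ⟨t, ht⟩ := exists_order hF
  obtain ⟨k, hk⟩ := h3
  set! w : Fˣ := t ^ k with hw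
  have hk0 : 0 < k := by omega
  have hwo : orderOf w = 3 := by
    rw [hw, orderOf_pow, ht, hk, Nat.gcd_eq_right (Dvd.intro_left _ rfl), Nat.mul_div_cancel _ hk0]
  have hw3 : w ^ 3 = 1 := by rw [← hwo]; exact pow_orderOf_eq_one w
  have hw1 : w ≠ 1 := by
    intro h1
    rw [h1, orderOf_one] at hwo
    omega
  have hwq : w ^ (q + 1) = 1 := by rw [hk, pow_mul, hw3, one_pow]
  have hwF : (w : F) ^ 3 = 1 := by rw [← Units.val_pow_eq_pow_val, hw3, Units.val_one]
  have hwF1 : (w : F) ≠ 1 := fun h => hw1 (Units.ext h)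
  have hww : (w : F) ^ 2 + w + 1 = 0 := by
    have h1 : ((w : F) - 1) * ((w : F) ^ 2 + w + 1) = 0 := by linear_combination hwF
    exact (mul_eq_zero.1 h1).resolve_left (sub_ne_zero.2 hwF1)
  have hwq' : (w : F) * (w : F) ^ q = 1 := by
    rw [← pow_succ', ← Units.val_pow_eq_pow_val, hwq, Units.val_one]
  have hw0 : (w : F) ≠ 0 := w.ne_zero
  have hwqq : (w : F) ^ q = (w : F) ^ 2 := by
    apply mul_left_cancel₀ hw0
    rw [hwq', ← pow_succ', hwF]
  by_cases h2 : (2 : F) = 0
  · -- characteristic two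
    have h9 : (9 : F) = 1 := by
      have : (9 : F) = 4 * 2 + 1 := by norm_num
      rw [this, h2, mul_zero, zero_add]
    have h11 : (1 : F) + 1 = 0 := by rw [← h2]; norm_num
    refine ⟨![1, 1, w], ?_, ?_, ?_⟩
    · intro i
      fin_cases i
      · show (1 : F) * 1 ^ q = 1
        rw [one_pow, one_mul]
      · show (1 : F) * 1 ^ q = 1
        rw [one_pow, one_mul]
      · exact hwq'
    · show ((1 : F) + 1 + w) * (1 + 1 + w) ^ q = 9
      rw [h11, zero_add, hwq', h9]
    · rintro ⟨-, h⟩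
      exact hwF1 h.symm
  · -- odd characteristic
    obtain ⟨v, hv⟩ := _root_.Cfsg.Agent.LieClassical.HermBasic.exists_norm_eq hF (c := (-3 : F)) (by rw [neg_pow_q hF, three_pow hF])
    set v' := v ^ q with hv'
    have hv'q : v' ^ q = v := pow_q_pow_q hF v
    have hone : (1 : F) ^ q = 1 := one_pow q
    have h4 : (4 : F) ≠ 0 := by
      have : (4 : F) = 2 * 2 := by norm_num
      rw [this]
      exact mul_ne_zero h2 h2
    have h12 : (12 : F) ≠ 0 := by
      have : (12 : F) = 3 * 4 := by norm_num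
      rw [this]
      exact mul_ne_zero h3F h4
    have hv0 : v ≠ 0 := by
      rintro h0
      rw [h0, zero_mul] at hv
      apply h3F
      linear_combination hv
    have hn3 : v + 3 ≠ 0 := by
      intro h0
      have h1 : v = -3 := eq_neg_of_add_eq_zero_left h0
      have h5 : v' = -3 := by rw [hv', h1, neg_pow_q hF, three_pow hF]
      rw [h5, h1] at hv
      apply h12
      linear_combination hv
    have hn1 : v + 1 ≠ 0 := by
      intro h0
      have h1 : v = -1 := eq_neg_of_add_eq_zero_left h0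
      have h5 : v' = -1 := by rw [hv', h1, neg_pow_q hF, hone]
      rw [h5, h1] at hv
      apply h4
      linear_combination hv
    have hn3' : v' + 3 ≠ 0 := by
      intro h0
      apply hn3
      have h1 := congrArg (fun x => x ^ q) h0
      simp only [add_pow_q hF, hv'q, three_pow hF, zero_pow_q hF] at h1
      exact h1
    have hn1' : v' + 1 ≠ 0 := by
      intro h0
      apply hn1
      have h1 := congrArg (fun x => x ^ q) h0
      simp only [add_pow_q hF, hv'q, hone, zero_pow_q hF] at h1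
      exact h1
    have e0 : (-(v * (v - 1)) / (v + 3)) ^ q = -(v' * (v' - 1)) / (v' + 3) := by
      rw [div_pow, neg_pow_q hF, mul_pow, sub_pow_q hF, add_pow_q hF, three_pow hF, hone]
    have e1 : (-((v - 1) * (v - 3)) / ((v + 1) * (v + 3))) ^ q =
        -((v' - 1) * (v' - 3)) / ((v' + 1) * (v' + 3)) := by
      rw [div_pow, neg_pow_q hF, mul_pow, mul_pow, sub_pow_q hF, sub_pow_q hF, add_pow_q hF, add_pow_q hF,
        three_pow hF, hone]
    refine ⟨![-(v * (v - 1)) / (v + 3), -((v - 1) * (v - 3)) / ((v + 1) * (v + 3)), 1], ?_, ?_, ?_⟩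
    · intro i
      fin_cases i
      · show -(v * (v - 1)) / (v + 3) * (-(v * (v - 1)) / (v + 3)) ^ q = 1
        rw [e0]
        field_simp
        linear_combination (v * v' - v - v' - 3) * hv
      · show -((v - 1) * (v - 3)) / ((v + 1) * (v + 3)) * (-((v - 1) * (v - 3)) / ((v + 1) * (v + 3))) ^ q = 1
        rw [e1]
        field_simp
        linear_combination (-8 * v - 8 * v') * hv
      · show (1 : F) * 1 ^ q = 1
        rw [one_pow, one_mul]
    · have e2 : -(v * (v - 1)) / (v + 3) + -((v - 1) * (v - 3)) / ((v + 1) * (v + 3)) + 1 =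
          -(v * (v - 3)) / (v + 1) := by
        field_simp
        ring
      have e3 : (-(v * (v - 3)) / (v + 1)) ^ q = -(v' * (v' - 3)) / (v' + 1) := by
        rw [div_pow, neg_pow_q hF, mul_pow, sub_pow_q hF, add_pow_q hF, three_pow hF, hone]
      show (-(v * (v - 1)) / (v + 3) + -((v - 1) * (v - 3)) / ((v + 1) * (v + 3)) + 1) *
        (-(v * (v - 1)) / (v + 3) + -((v - 1) * (v - 3)) / ((v + 1) * (v + 3)) + 1) ^ q = 9
      rw [e2, e3]
      field_simp
      linear_combination (v * v' - 3 * v - 3 * v' - 3) * hv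
    · rintro ⟨h5, h6⟩
      have h7 : -(v * (v - 1)) / (v + 3) = 1 := h5.trans h6
      rw [div_eq_one_iff_eq hn3] at h7
      have h8 : v ^ 2 = -3 := by linear_combination -h7
      have h9 : v' = v := by
        apply mul_left_cancel₀ hv0
        rw [hv, ← sq, h8]
      have h10 : (v - (1 + 2 * (w : F))) * (v + (1 + 2 * (w : F))) = 0 := by
        linear_combination h8 - 4 * hww
      have h2q : (2 : F) ^ q = 2 := by
        have h1 : (2 : F) = 1 + 1 := by norm_num
        rw [h1, add_pow_q hF, one_pow]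
      have h11 : (1 + 2 * (w : F)) ^ q = -(1 + 2 * (w : F)) := by
        rw [add_pow_q hF, one_pow, mul_pow, hwqq, h2q]
        linear_combination 2 * hww
      have h12 : v' = -v := by
        rcases mul_eq_zero.1 h10 with h | h
        · rw [hv', sub_eq_zero.1 h, h11]
        · rw [hv', eq_neg_of_add_eq_zero_left h, neg_pow_q hF, h11]
      have h13 : (2 : F) * v = 0 := by
        rw [h9] at h12
        linear_combination h12
      exact hv0 ((mul_eq_zero.1 h13).resolve_left h2)

theorem hom_eq (hF : Fintype.card F = q ^ 2) {x y : Fin 3 → F} (h : x = y) {m : F} (hx : hermForm 3 F q x x ≠ 0)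
    (hy : hermForm 3 F q y y ≠ 0) (hm : m ^ (q + 1) = 1) : hom hF x m hx hm = hom hF y m hy hm := by
  subst h
  rfl

/-- homologies with centre proportional to a vector with entries of norm one -/
theorem hom_mem (hF : Fintype.card F = q ^ 2) (hH : Data q H) {c : Fin 3 → F} (hc : ∀ i, c i * c i ^ q = 1) {l : F}
    {y : Fin 3 → F} (hy : y = l • c) {m : F} (hyy : hermForm 3 F q y y ≠ 0) (hm : m ^ (q + 1) = 1) :
    hom hF y m hyy hm ∈ H := by
  have hc0 : ∀ i, c i ≠ 0 := by
    intro i h0
    have := hc i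
    rw [h0, zero_mul] at this
    exact zero_ne_one this
  have hcc : hermForm 3 F q c c ≠ 0 := by
    intro h0
    apply hyy
    rw [hy, herm_smul_self, h0, mul_zero]
  have hlc : hermForm 3 F q (l • c) (l • c) ≠ 0 := by rw [← hy]; exact hyy
  rw [hom_eq hF hy hyy hlc hm, hom_smul hF hcc hm hlc]
  exact hH.homs hF (fun i => Units.mk0 (c i) (hc0 i)) (fun i => Units.ext (by
    rw [Units.val_pow_eq_pow_val, Units.val_mk0, Units.val_one, pow_succ']
    exact hc i)) m hcc hm

theorem herm_ones (h3F : (3 : F) ≠ 0) : hermForm 3 F q (fun _ => (1 : F)) (fun _ => 1) ≠ 0 := by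
  rw [herm_three]
  simp only [one_pow, mul_one]
  intro h0
  apply h3F
  rw [← h0]
  norm_num

theorem top_of_gt (hF : Fintype.card F = q ^ 2) (h3 : 3 ∣ q + 1) (h9 : ¬ 9 ∣ q + 1) (hq : 5 < q)
    (h3F : (3 : F) ≠ 0) (hH : Data q H) : H = ⊤ := by
  obtain ⟨c, hc, hs, hne⟩ := exists_tangent hF h3 h3F
  obtain ⟨z, l, hl0, hz0, hzz, hxz, hxl, -⟩ := tangent_z hF h3F hc hs hne
  have hx := herm_ones (q := q) h3F
  have hones : ∀ {m : F} (hm : m ^ (q + 1) = 1), hom hF (fun _ => 1) m hx hm ∈ H := fun hm =>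
    hom_mem hF hH (c := fun _ => 1) (fun _ => by rw [one_pow, one_mul]) (l := 1) (one_smul _ _).symm hx hm
  refine top_of_tangent hF h3 h3F (by omega) hH hz0 hzz hxz ?_
  obtain ⟨t, ht⟩ := exists_order hF
  have htq : (t : F) ^ (q + 1) = 1 := by
    rw [← Units.val_pow_eq_pow_val, ← ht, pow_orderOf_eq_one, Units.val_one]
  have ht3 : (t : F) ^ 3 ≠ 1 := by
    intro h1
    have h2 : t ^ 3 = 1 := Units.ext (by rw [Units.val_pow_eq_pow_val, h1, Units.val_one])
    have h4 := Nat.le_of_dvd (by norm_num) (orderOf_dvd_of_pow_eq_one h2)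
    omega
  let A : AddSubgroup F :=
    { carrier := {g | Ty H (fun _ => 1) z g}
      add_mem' := fun h h' => ty_add hF hzz hxz h h'
      zero_mem' := ty_zero hF
      neg_mem' := fun h => ty_neg hF hzz hxz h }
  have hA : ∀ g, g ∈ A ↔ Ty H (fun _ => 1) z g := fun g => Iff.rfl
  have hx1 : hermForm 3 F q ((fun _ => (1 : F)) + (1 : F) • z) ((fun _ => (1 : F)) + (1 : F) • z) ≠ 0 := by
    have hzx := herm_eq_zero_swap hF hxz
    rw [one_smul, herm_add_left, herm_add_right hF, herm_add_right hF, hzz, hxz, hzx, add_zero, add_zero, add_zero]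
    exact hx
  have h1 := ty_pair hF hzz hxz hx htq (hones htq) hx1 (hom_mem hF hH hc (l := l) (by rw [one_smul, hxl]) hx1 htq)
  have htop := all_of_closed hF h9 hq A ((hA _).2 h1) (by
    rw [one_pow, mul_one]
    exact div_ne_zero (sub_ne_zero.2 fun h2 => ht3 (inv_eq_one.1 h2)) hx) (fun m hm g hg => by
    rw [hA] at hg ⊢
    have hm' : (m⁻¹) ^ (q + 1) = 1 := by rw [inv_pow, hm, inv_one]
    have h2 := ty_hom hF hxz hx hm' (hones hm') hg
    rwa [inv_pow, inv_inv] at h2)
  intro g
  rw [← hA, htop]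
  exact AddSubgroup.mem_top g

/-- `q = 5` -/
theorem top_of_five (hF : Fintype.card F = q ^ 2) (hq : q = 5) (hH : Data q H) : H = ⊤ := by
  have hcard : Fintype.card F = 25 := by rw [hF, hq]; norm_num
  have hchar : CharP F 5 := by
    obtain ⟨p, hp⟩ := CharP.exists F
    obtain ⟨n, hprime, hc⟩ := FiniteField.card F p
    rw [hcard] at hc
    have h5 : p ∣ 25 := by rw [hc]; exact dvd_pow_self p n.ne_zero
    have h6 : p ∣ 5 ^ 2 := h5
    have h7 := (Nat.prime_dvd_prime_iff_eq hprime (by norm_num)).1 (hprime.dvd_of_dvd_pow h6)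
    rwa [h7] at hp
  have h5 : (5 : F) = 0 := by
    have := CharP.cast_eq_zero F 5
    exact_mod_cast this
  have h2 : (2 : F) ≠ 0 := by
    intro h0
    have : (1 : F) = 5 - 2 * 2 := by norm_num
    rw [h5, h0, mul_zero, sub_zero] at this
    exact one_ne_zero this
  have h3F : (3 : F) ≠ 0 := by
    intro h0
    apply h2
    have : (2 : F) = 5 - 3 := by norm_num
    rw [this, h5, h0, sub_zero]
  have h3 : 3 ∣ q + 1 := by omega
  obtain ⟨t, ht⟩ := exists_order hF
  obtain ⟨k, hk⟩ := h3
  set! w : Fˣ := t ^ k with hw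
  have hk0 : 0 < k := by omega
  have hwo : orderOf w = 3 := by
    rw [hw, orderOf_pow, ht, hk, Nat.gcd_eq_right (Dvd.intro_left _ rfl), Nat.mul_div_cancel _ hk0]
  have hw3 : w ^ 3 = 1 := by rw [← hwo]; exact pow_orderOf_eq_one w
  have hw1 : w ≠ 1 := by
    intro h1
    rw [h1, orderOf_one] at hwo
    omega
  have hwq : w ^ (q + 1) = 1 := by rw [hk, pow_mul, hw3, one_pow]
  have hwF : (w : F) ^ 3 = 1 := by rw [← Units.val_pow_eq_pow_val, hw3, Units.val_one]
  have hwF1 : (w : F) ≠ 1 := fun h => hw1 (Units.ext h)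
  have hww : (w : F) ^ 2 + w + 1 = 0 := by
    have h1 : ((w : F) - 1) * ((w : F) ^ 2 + w + 1) = 0 := by linear_combination hwF
    exact (mul_eq_zero.1 h1).resolve_left (sub_ne_zero.2 hwF1)
  have hwq' : (w : F) * (w : F) ^ q = 1 := by
    rw [← pow_succ', ← Units.val_pow_eq_pow_val, hwq, Units.val_one]
  have hw0 : (w : F) ≠ 0 := w.ne_zero
  have hwqq : (w : F) ^ q = (w : F) ^ 2 := by
    apply mul_left_cancel₀ hw0
    rw [hwq', ← pow_succ', hwF]
  have hone : (1 : F) ^ q = 1 := one_pow q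
  have hsc : ((w : F) ^ 2) ^ q = w := by
    rw [← pow_mul, mul_comm, pow_mul, hwqq]
    linear_combination (w : F) * hwF
  -- the first tangent
  set! c : Fin 3 → F := ![1, -(w : F), -(w : F) ^ 2] with hcdef
  have hc : ∀ i, c i * c i ^ q = 1 := by
    intro i
    fin_cases i
    · show (1 : F) * 1 ^ q = 1
      rw [one_pow, one_mul]
    · show (-(w : F)) * (-(w : F)) ^ q = 1
      rw [neg_pow_q hF, neg_mul_neg, hwq']
    · show (-(w : F) ^ 2) * (-(w : F) ^ 2) ^ q = 1
      rw [neg_pow_q hF, neg_mul_neg, hsc, ← pow_succ, hwF]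
  have hs2 : c 0 + c 1 + c 2 = 2 := by
    show (1 : F) + -(w : F) + -(w : F) ^ 2 = 2
    linear_combination -hww
  have h2q : (2 : F) ^ q = 2 := by
    have h1 : (2 : F) = 1 + 1 := by norm_num
    rw [h1, add_pow_q hF, one_pow]
  have hs : (c 0 + c 1 + c 2) * (c 0 + c 1 + c 2) ^ q = 9 := by
    rw [hs2, h2q]
    linear_combination -h5
  have hne : ¬ (c 0 = c 1 ∧ c 1 = c 2) := by
    rintro ⟨h6, h7⟩
    have h8 : (-(w : F)) = -(w : F) ^ 2 := h7
    apply hwF1
    apply mul_left_cancel₀ hw0
    rw [mul_one]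
    linear_combination h8
  obtain ⟨z, l, hl0, hz0, hzz, hxz, hxl, hl⟩ := tangent_z hF h3F hc hs hne
  have hx := herm_ones (q := q) h3F
  have hl1 : l = -1 := by
    rw [hl, hs2, div_eq_iff h2]
    linear_combination h5
  have hm : (-1 : F) ^ (q + 1) = 1 := by
    subst hq
    norm_num
  have hones : hom hF (fun _ => 1) (-1) hx hm ∈ H :=
    hom_mem hF hH (c := fun _ => 1) (fun _ => by rw [one_pow, one_mul]) (l := 1) (one_smul _ _).symm hx hm
  have hxb : ∀ b : F, hermForm 3 F q ((fun _ => (1 : F)) + b • z) ((fun _ => (1 : F)) + b • z) ≠ 0 := by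
    intro b
    have hzx := herm_eq_zero_swap hF hxz
    rw [herm_add_left, herm_add_right hF, herm_add_right hF, herm_smul_left, herm_smul_right, herm_smul_right,
      herm_smul_left, hzz, hxz, hzx]
    simp only [mul_zero, add_zero]
    exact hx
  -- the second tangent
  set! u : Fin 3 → F := ![1, (w : F) ^ 2, -(w : F) ^ 2] with hudef
  have hu : ∀ i, u i * u i ^ q = 1 := by
    intro i
    fin_cases i
    · show (1 : F) * 1 ^ q = 1
      rw [one_pow, one_mul]
    · show (w : F) ^ 2 * ((w : F) ^ 2) ^ q = 1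
      rw [hsc, ← pow_succ, hwF]
    · show (-(w : F) ^ 2) * (-(w : F) ^ 2) ^ q = 1
      rw [neg_pow_q hF, neg_mul_neg, hsc, ← pow_succ, hwF]
  have huu3 : hermForm 3 F q u u = 3 := by
    rw [herm_three, hu, hu, hu]
    norm_num
  have huu : hermForm 3 F q u u ≠ 0 := by rw [huu3]; exact h3F
  have hgu : hom hF u (-1) huu hm ∈ H := hom_mem hF hH hu (l := 1) (one_smul _ _).symm huu hm
  set! e2 : Fin 3 → F := ![0, 0, 1] with he2
  have hee1 : hermForm 3 F q e2 e2 = 1 := by
    rw [herm_three]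
    show (0 : F) * 0 ^ q + 0 * 0 ^ q + 1 * 1 ^ q = 1
    rw [one_pow, zero_mul]
    ring
  have hee : hermForm 3 F q e2 e2 ≠ 0 := by rw [hee1]; exact one_ne_zero
  have hge : hom hF e2 (-1) hee hm ∈ H := by
    refine hH.diag ![-1, -1, 1] ?_ ?_ _ ?_
    · rw [Fin.prod_univ_three]
      show (-1 : Fˣ) * -1 * 1 = 1
      rw [mul_one, neg_mul_neg, one_mul]
    · have hmu : (-1 : Fˣ) ^ (q + 1) = 1 := by
        subst hq
        norm_num
      intro i
      fin_cases i
      · exact hmu
      · exact hmu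
      · exact one_pow _
    · intro v
      rw [act_hom, hee1, herm_three]
      funext i
      fin_cases i
      · show (-1 : F) * v 0 + _ * 0 = ((-1 : Fˣ) : F) * v 0
        rw [mul_zero, add_zero, Units.val_neg, Units.val_one]
      · show (-1 : F) * v 1 + _ * 0 = ((-1 : Fˣ) : F) * v 1
        rw [mul_zero, add_zero, Units.val_neg, Units.val_one]
      · show (-1 : F) * v 2 + (-1 * (((-1) ^ 3)⁻¹ - 1) * (v 0 * 0 ^ q + v 1 * 0 ^ q + v 2 * 1 ^ q) / 1) * 1 =
          ((1 : Fˣ) : F) * v 2
        rw [zero_pow_q hF, one_pow, Units.val_one]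
        norm_num
        ring
  -- `y = g e2`
  have hge2 : act (hom hF u (-1) huu hm) e2 = ![(w : F), 1, -2] := by
    rw [act_hom, huu3]
    have h6 : hermForm 3 F q e2 u = -(w : F) := by
      rw [herm_three]
      show (0 : F) * 1 ^ q + 0 * ((w : F) ^ 2) ^ q + 1 * (-(w : F) ^ 2) ^ q = -(w : F)
      rw [neg_pow_q hF, hsc]
      ring
    rw [h6]
    have h7 : (-1 : F) * (((-1) ^ 3)⁻¹ - 1) * -(w : F) / 3 = w := by
      rw [div_eq_iff h3F]
      norm_num
      linear_combination -(w : F) * h5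
    rw [h7]
    funext i
    fin_cases i
    · show (-1 : F) * 0 + w * 1 = w
      ring
    · show (-1 : F) * 0 + w * (w : F) ^ 2 = 1
      linear_combination hwF
    · show (-1 : F) * 1 + w * -(w : F) ^ 2 = -2
      linear_combination -hwF
  have hyy : hermForm 3 F q (act (hom hF u (-1) huu hm) e2) (act (hom hF u (-1) huu hm) e2) ≠ 0 := by
    rw [herm_act]; exact hee
  have hgy : hom hF (act (hom hF u (-1) huu hm) e2) (-1) hyy hm ∈ H := by
    rw [hom_conj hF hee hm]
    exact H.mul_mem (H.mul_mem hgu hge) (H.inv_mem hgu)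
  -- `x + 3 w z` is proportional to `y`
  have hz : ∀ i, z i = -c i - 1 := by
    intro i
    have := congrFun hxl i
    rw [hl1] at this
    have h6 : (1 : F) + z i = -1 * c i := this
    linear_combination h6
  have hxy : (fun _ => (1 : F)) + (3 * (w : F)) • z = ((w : F) ^ 2 - 1) • act (hom hF u (-1) huu hm) e2 := by
    rw [hge2]
    funext i
    fin_cases i
    · show (1 : F) + 3 * w * z 0 = ((w : F) ^ 2 - 1) * w
      rw [hz]
      show (1 : F) + 3 * w * (-1 - 1) = ((w : F) ^ 2 - 1) * w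
      linear_combination -hwF - (w : F) * h5
    · show (1 : F) + 3 * w * z 1 = ((w : F) ^ 2 - 1) * 1
      rw [hz]
      show (1 : F) + 3 * w * (-(-(w : F)) - 1) = ((w : F) ^ 2 - 1) * 1
      linear_combination 2 * hww - (w : F) * h5
    · show (1 : F) + 3 * w * z 2 = ((w : F) ^ 2 - 1) * -2
      rw [hz]
      show (1 : F) + 3 * w * (-(-(w : F) ^ 2) - 1) = ((w : F) ^ 2 - 1) * -2
      linear_combination 2 * hww + 3 * hwF - (w : F) * h5
  have hly : hermForm 3 F q (((w : F) ^ 2 - 1) • act (hom hF u (-1) huu hm) e2)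
      (((w : F) ^ 2 - 1) • act (hom hF u (-1) huu hm) e2) ≠ 0 := by
    rw [← hxy]; exact hxb _
  refine top_of_tangent hF ⟨k, hk⟩ h3F (by omega) hH hz0 hzz hxz ?_
  let A : AddSubgroup F :=
    { carrier := {g | Ty H (fun _ => 1) z g}
      add_mem' := fun h h' => ty_add hF hzz hxz h h'
      zero_mem' := ty_zero hF
      neg_mem' := fun h => ty_neg hF hzz hxz h }
  have hA : ∀ g, g ∈ A ↔ Ty H (fun _ => 1) z g := fun g => Iff.rfl
  have hN : hermForm 3 F q (fun _ => (1 : F)) (fun _ => 1) = 3 := by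
    rw [herm_three]
    simp only [one_pow, mul_one]
    norm_num
  have t1 := ty_pair hF hzz hxz hx hm hones (hxb 1) (hom_mem hF hH hc (l := l) (by rw [one_smul, hxl]) (hxb 1) hm)
  have t2 := ty_pair hF hzz hxz hx hm hones (hxb (3 * (w : F))) (by
    rw [hom_eq hF hxy (hxb _) hly hm, hom_smul hF hyy hm hly]
    exact hgy)
  have e1 : (((-1 : F) ^ 3)⁻¹ - 1) * 1 ^ q / hermForm 3 F q (fun _ => (1 : F)) (fun _ => 1) = 1 := by
    rw [hN, one_pow, mul_one, div_eq_iff h3F]
    norm_num only []
    linear_combination -h5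
  have e2' : (((-1 : F) ^ 3)⁻¹ - 1) * (3 * (w : F)) ^ q / hermForm 3 F q (fun _ => (1 : F)) (fun _ => 1) =
      3 * (w : F) ^ 2 := by
    rw [hN, mul_pow, three_pow hF, hwqq, div_eq_iff h3F]
    norm_num
    linear_combination -(w : F) ^ 2 * 3 * h5
  rw [e1] at t1
  rw [e2'] at t2
  have htop : A = ⊤ := by
    have hdvd : Nat.card A ∣ 25 := by
      rw [← hcard, ← Nat.card_eq_fintype_card]
      exact AddSubgroup.card_addSubgroup_dvd_card A
    have hle : AddSubgroup.zmultiples (1 : F) ≤ A := by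
      exact AddSubgroup.zmultiples_le_of_mem t1
    have ho : Nat.card (AddSubgroup.zmultiples (1 : F)) = 5 := by
      rw [Nat.card_zmultiples]
      exact CharP.eq F (CharP.addOrderOf_one F) hchar
    have h6 : 5 ≤ Nat.card A := by
      rw [← ho]
      exact AddSubgroup.card_le_of_le hle
    have h7 : Nat.card A = 5 ∨ Nat.card A = 25 := by
      have h8 : Nat.card A ∈ Nat.divisors 25 := Nat.mem_divisors.2 ⟨hdvd, by norm_num⟩
      have h9 : Nat.divisors 25 = {1, 5, 25} := by decide
      rw [h9] at h8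
      simp only [Finset.mem_insert, Finset.mem_singleton] at h8
      omega
    rcases h7 with h7 | h7
    · exfalso
      have h8 : AddSubgroup.zmultiples (1 : F) = A :=
        AddSubgroup.eq_of_le_of_card_ge hle (by rw [h7, ho])
      have h9 : 3 * (w : F) ^ 2 ∈ AddSubgroup.zmultiples (1 : F) := by rw [h8]; exact t2
      obtain ⟨j, hj⟩ := AddSubgroup.mem_zmultiples_iff.1 h9
      rw [zsmul_one] at hj
      have h10 : (3 * (w : F) ^ 2) ^ 5 = 3 * (w : F) ^ 2 := by
        rw [← hj]
        have : Fact (Nat.Prime 5) := ⟨by norm_num⟩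
        exact map_intCast (frobenius F 5) j
      apply hwF1
      have h11 : (3 * (w : F) ^ 2) ^ 5 = 3 * w := by
        rw [mul_pow, ← pow_mul]
        linear_combination (243 * (w : F)) * ((w : F) ^ 6 + (w : F) ^ 3 + 1) * hwF + 48 * (w : F) * h5
      rw [h11] at h10
      have h12 : (3 * (w : F)) * (w - 1) = 0 := by linear_combination -h10
      exact sub_eq_zero.1 ((mul_eq_zero.1 h12).resolve_left (mul_ne_zero h3F hw0))
    · apply AddSubgroup.eq_top_of_card_eq
      rw [h7, Nat.card_eq_fintype_card, hcard]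
  intro g
  rw [← hA, htop]
  exact AddSubgroup.mem_top g

end Tangent

/-- **`PSU_3(q)`, `p = 3`, `9` does not divide `q + 1`.** -/
theorem noSP_three_nine [Fact (Nat.Prime 3)] (hF : Fintype.card F = q ^ 2) (h3 : 3 ∣ q + 1) (h9 : ¬ 9 ∣ q + 1)
    (hq : q ≠ 2) (h3F : (3 : F) ≠ 0) (e : G ≃* PSU 3 F q) : NoSP 3 G := by
  by_contra h
  obtain ⟨H, hHt, hH⟩ := exists_data hF h3 e h
  apply hHt
  by_cases hq5 : q = 5
  · exact top_of_five hF hq5 hH
  · have := two_le hF
    exact top_of_gt hF h3 h9 (by omega) h3F hH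

end Cfsg.Agent.H242.StrP.Uni
end

-- part: H242/StrP/UniAll
section
/-!
# `PSU_n(q)` has no strongly `p`-embedded subgroups, `p` odd, cross characteristic, noncyclic Sylow subgroups
(helper242, for S2120)
-/

set_option autoImplicit false
set_option linter.unusedSectionVars false

namespace Cfsg.Agent.H242.StrP.UniAll

open Cfsg Subgroup Cfsg.Agent.H818.StrP Cfsg.Agent.H242.StrP.Uni Cfsg.Agent.LieClassical.HermBasic

variable {F : Type} [Field F] [Fintype F] {n q r p : ℕ} {G : Type*} [Group G] [Finite G] [IsSimpleGroup G]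
  [hp : Fact p.Prime] [hr : Fact r.Prime] [CharP F r]

omit hp hr [CharP F r] in
theorem exists_order_dvd (hF : Fintype.card F = q ^ 2) {m : ℕ} (hm : m ∣ q + 1) :
    ∃ w : Fˣ, orderOf w = m ∧ w ^ (q + 1) = 1 := by
  obtain ⟨t, ht⟩ := exists_order hF
  obtain ⟨k, hk⟩ := hm
  have hk0 : 0 < k := by
    rcases Nat.eq_zero_or_pos k with h | h
    · rw [h, mul_zero] at hk; omega
    · exact h
  refine ⟨t ^ k, ?_, ?_⟩
  · rw [orderOf_pow, ht, hk, Nat.gcd_eq_right (Dvd.intro_left _ rfl), Nat.mul_div_cancel _ hk0]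
  · rw [← pow_mul, mul_comm, pow_mul, ← ht, pow_orderOf_eq_one, one_pow]

/-- **`PSU_n(q)`, cross characteristic.** -/
theorem noSP_psu (hF : Fintype.card F = q ^ 2) (hn : 3 ≤ n) (h32 : ¬ (n = 3 ∧ q = 2))
    (hna : ¬ IsMulCommutative G) (hpr : p ≠ r) (hp2 : p ≠ 2) (e : G ≃* PSU n F q)
    (hcyc : ¬ ∀ P : Sylow p G, IsCyclic P) : NoSP p G := by
  by_cases hpq : p ∣ q + 1
  · obtain ⟨w, hwo, hwq⟩ := exists_order_dvd hF hpq
    have hwp : w ^ p = 1 := by rw [← hwo]; exact pow_orderOf_eq_one w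
    have hw1 : w ≠ 1 := by
      intro h
      rw [h, orderOf_one] at hwo
      exact hp.out.one_lt.ne hwo
    by_cases hn4 : 4 ≤ n
    · exact noSP_of_root hF hn4 hna hpr hp2 e hwp hw1 hwq
    have hn3 : n = 3 := by omega
    subst hn3
    have hq2 : q ≠ 2 := fun h => h32 ⟨rfl, h⟩
    by_cases hp3 : p = 3
    · subst hp3
      by_cases h9 : 9 ∣ q + 1
      · obtain ⟨m, hmo, hmq⟩ := exists_order_dvd hF h9
        refine noSP_three_of_root hF hq2 e hmq ?_ ?_
        · intro h
          have h1 := Nat.le_of_dvd (by norm_num) (orderOf_dvd_of_pow_eq_one h)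
          omega
        · have h1 := pow_orderOf_eq_one m
          rw [hmo] at h1
          exact h1
      · refine noSP_three_nine hF hpq h9 hq2 ?_ e
        intro h0
        have h1 : r ∣ 3 := (CharP.cast_eq_zero_iff F r 3).1 (by exact_mod_cast h0)
        exact hpr ((Nat.prime_dvd_prime_iff_eq hr.out Nat.prime_three).1 h1).symm
    · refine noSP_three_of_root hF hq2 e hwq ?_ ?_
      · intro h
        have h1 : p ∣ 3 := by rw [← hwo]; exact orderOf_dvd_of_pow_eq_one h
        exact hp3 ((Nat.prime_dvd_prime_iff_eq hp.out Nat.prime_three).1 h1)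
      · rw [mul_comm, pow_mul, hwp, one_pow]
  · exact noSP_coprime hF hn h32 hna hpr hp2 ((Nat.Prime.coprime_iff_not_dvd hp.out).2 hpq) e hcyc

end Cfsg.Agent.H242.StrP.UniAll
end

private theorem dce_18b272ce21c9 : _root_.True := by
  try have : _root_.True := by simp only [_root_.Cfsg.Agent.H242.StrP.Uni.rot.eq_1]
  try have : _root_.True := by simp only [_root_.Cfsg.Agent.H242.StrP.Uni.hom.eq_1]
  try have : _root_.True := by simp only [_root_.Cfsg.Agent.H242.StrP.Uni.rotM.eq_1]
  exact _root_.True.intro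
end
end
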